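/-
Involutions of a unipotent subgroup in simply laced type and characteristic two: every one is conjugate
to a product of root elements of mutually orthogonal roots.
-/
import Cfsg.Agent.Lib.Chev.Twist.Class

set_option autoImplicit false
set_option maxRecDepth 100000
set_option maxHeartbeats 1000000

namespace CfsgLib.Chev.SLInv

open Cfsg.Lie Matrix CfsgLib.Chev

/-- the pairing of two roots -/
noncomputable def ip (D : ChevalleyDatum) (A : Aux) (r s : ℕ) : ℤ :=
  ((List.range D.rank).map fun i => A.a s i * A.cart i r).sum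

/-- commutator terms with odd coefficient -/
noncomputable def oddT (A : Aux) (r s : ℕ) : List (ℕ × ℕ × ℕ) :=
  ((A.terms r s).filter fun c => c.2.1 % 2 != 0).map fun c => (c.1, c.2.2.1, c.2.2.2)

/-- the sum of two roots -/
noncomputable def sumI (A : Aux) (r s : ℕ) : ℕ := ((oddT A r s).headD (0, 0, 0)).1

/-- the checks on one pair of positive roots -/
noncomputable def pairB (D : ChevalleyDatum) (A : Aux) (r s : ℕ) : Bool :=
  decide (ip D A r s = ip D A s r) &&
  (bif decide (r = s) then decide (ip D A r s = 2)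
   else decide (-1 ≤ ip D A r s) && decide (ip D A r s ≤ 1) &&
    (bif decide (ip D A r s = -1) then
      decide (oddT A r s = [(sumI A r s, 1, 1)]) && decide (sumI A r s < D.nroots) &&
        posB D A (sumI A r s) &&
        (List.range D.rank).all fun j => decide (A.a (sumI A r s) j = A.a r j + A.a s j)
     else decide (oddT A r s = [])) &&
    (!(decide (ip D A r s = 1) && decide (s < r)) ||
      (decide (sumI A r (A.neg s) < D.nroots) && posB D A (sumI A r (A.neg s)) &&
        (List.range D.rank).all fun j => decide (A.a (sumI A r (A.neg s)) j = A.a r j - A.a s j))))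

/-- the table condition -/
noncomputable def laced (D : ChevalleyDatum) (A : Aux) : Bool :=
  D.posRoots.all fun r => D.posRoots.all fun s => pairB D A r s

variable {D : ChevalleyDatum} {A : Aux} {F : Type*} [Field F]

/-- closedness under sums -/
def ClosedP (D : ChevalleyDatum) (A : Aux) (P : ℕ → Prop) : Prop :=
  ∀ a b, P a → P b → ip D A a b = -1 → P (sumI A a b)

/-- orthogonal to all roots in a list -/
def Perp (D : ChevalleyDatum) (A : Aux) (O : List ℕ) (r : ℕ) : Prop :=
  D.IsPosRoot r ∧ ∀ o ∈ O, ip D A o r = 0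

/-- the facts contained in the table condition -/
structure Facts (D : ChevalleyDatum) (A : Aux) : Prop where
  symm : ∀ r s, D.IsPosRoot r → D.IsPosRoot s → ip D A r s = ip D A s r
  self : ∀ r, D.IsPosRoot r → ip D A r r = 2
  bound : ∀ r s, D.IsPosRoot r → D.IsPosRoot s → r ≠ s → -1 ≤ ip D A r s ∧ ip D A r s ≤ 1
  odd : ∀ r s, D.IsPosRoot r → D.IsPosRoot s → r ≠ s → ip D A r s = -1 →
    oddT A r s = [(sumI A r s, 1, 1)]
  even : ∀ r s, D.IsPosRoot r → D.IsPosRoot s → r ≠ s → ip D A r s ≠ -1 → oddT A r s = []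
  sum : ∀ r s, D.IsPosRoot r → D.IsPosRoot s → ip D A r s = -1 →
    D.IsPosRoot (sumI A r s) ∧ ∀ j < D.rank, A.a (sumI A r s) j = A.a r j + A.a s j
  diff : ∀ r s, D.IsPosRoot r → D.IsPosRoot s → s < r → ip D A r s = 1 →
    ∃ t, D.IsPosRoot t ∧ ∀ j < D.rank, A.a t j = A.a r j - A.a s j

theorem facts (g : Good D A) (hD : laced D A = true) : Facts D A := by
  have key : ∀ r s, D.IsPosRoot r → D.IsPosRoot s → pairB D A r s = true := fun r s hr hs =>
    List.all_eq_true.1 (List.all_eq_true.1 hD r (posRoots_mem.2 hr)) s (posRoots_mem.2 hs)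
  have hpair : ∀ r s, D.IsPosRoot r → D.IsPosRoot s → r ≠ s → ip D A r s = ip D A s r ∧
      (-1 ≤ ip D A r s ∧ ip D A r s ≤ 1) ∧
      (ip D A r s = -1 → oddT A r s = [(sumI A r s, 1, 1)] ∧ D.IsPosRoot (sumI A r s) ∧
        ∀ j < D.rank, A.a (sumI A r s) j = A.a r j + A.a s j) ∧
      (ip D A r s ≠ -1 → oddT A r s = []) ∧
      (ip D A r s = 1 → s < r → ∃ t, D.IsPosRoot t ∧ ∀ j < D.rank, A.a t j = A.a r j - A.a s j) := by
    intro r s hr hs hne
    have h := key r s hr hs
    simp only [pairB, hne, decide_false, cond_false, Bool.and_eq_true, decide_eq_true_eq, Bool.or_eq_true,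
      Bool.not_eq_true', Bool.and_eq_false_iff, decide_eq_false_iff_not] at h
    obtain ⟨hsym, ⟨⟨h1, h2⟩, h3⟩, h4⟩ := h
    refine ⟨hsym, ⟨h1, h2⟩, fun e => ?_, fun e => ?_, fun e hlt => ?_⟩
    · simp only [e, decide_true, cond_true, Bool.and_eq_true, decide_eq_true_eq, List.all_eq_true,
        List.mem_range] at h3
      exact ⟨h3.1.1.1, (posB_iff g h3.1.1.2).1 h3.1.2, h3.2⟩
    · simpa [e] using h3
    · rcases h4 with h4 | h4
      · rcases h4 with h4 | h4
        · exact absurd e h4
        · exact absurd hlt h4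
      · simp only [List.all_eq_true, List.mem_range, decide_eq_true_eq] at h4
        exact ⟨_, (posB_iff g h4.1.1).1 h4.1.2, h4.2⟩
  have hself : ∀ r, D.IsPosRoot r → ip D A r r = 2 := fun r hr => by
    have h := key r r hr hr
    simp only [pairB, decide_true, cond_true, Bool.and_eq_true, decide_eq_true_eq] at h
    exact h.2
  refine ⟨fun r s hr hs => ?_, hself, fun r s hr hs hne => (hpair r s hr hs hne).2.1,
    fun r s hr hs hne e => ((hpair r s hr hs hne).2.2.1 e).1,
    fun r s hr hs hne e => (hpair r s hr hs hne).2.2.2.1 e, fun r s hr hs e => ?_,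
    fun r s hr hs hlt e => (hpair r s hr hs hlt.ne').2.2.2.2 e hlt⟩
  · rcases eq_or_ne r s with rfl | hne
    · rfl
    · exact (hpair r s hr hs hne).1
  · have hne : r ≠ s := fun h => by subst h; rw [hself r hr] at e; omega
    exact ((hpair r s hr hs hne).2.2.1 e).2

/-- linearity of the pairing -/
lemma ip_lin {r a b u : ℕ} {i k : ℤ} (h : ∀ j < D.rank, A.a u j = i * A.a a j + k * A.a b j) :
    ip D A r u = i * ip D A r a + k * ip D A r b := by
  simp only [ip, ← List.sum_map_mul_left, ← List.sum_map_add]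
  refine congrArg List.sum (List.map_congr_left fun j hj => ?_)
  rw [h j (List.mem_range.1 hj)]
  ring

variable [CharP F 2]

lemma cast_mod (z : ℤ) : (z : F) = if (z % 2 != 0) = true then 1 else 0 := by
  split_ifs with hz
  · rw [← Int.cast_one]
    exact (CharP.intCast_eq_intCast F 2).2 (by simp at hz; unfold Int.ModEq; omega)
  · rw [← Int.cast_zero]
    exact (CharP.intCast_eq_intCast F 2).2 (by simp at hz; unfold Int.ModEq; omega)

variable (h : Std D A) (hf : Facts D A)

local notation "x" => xG (F := F) h.good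

lemma swap {r s : ℕ} (hr : D.IsPosRoot r) (hs : D.IsPosRoot s) (hne : s ≠ r) (t u : F) :
    x s u * x r t = x r t * x s u * ((oddT A r s).map fun c => x c.1 (t ^ c.2.1 * u ^ c.2.2)).prod := by
  have hsn : s ≠ A.neg r := fun e => not_pos_neg h.good hr (e ▸ hs)
  rw [xG_swap h hr.1 hs.1 hne hsn t u]
  congr 1
  simp only [oddT, CharTwo.neg_eq, List.map_map, Function.comp_def]
  induction A.terms r s with
  | nil => rfl
  | cons c L ih =>
    by_cases hc : (c.2.1 % 2 != 0) = true
    · rw [List.filter_cons, if_pos hc, List.map_cons, List.map_cons, List.prod_cons, List.prod_cons, ih,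
        cast_mod, if_pos hc, one_mul]
    · rw [List.filter_cons, if_neg hc, List.map_cons, List.prod_cons, ih, cast_mod, if_neg hc, zero_mul,
        zero_mul, xG_zero, one_mul]

include h hf

/-- conjugation of one root element by another -/
lemma conj_root {t q : ℕ} (ht : D.IsPosRoot t) (hq : D.IsPosRoot q) (d u : F) :
    x t d * x q u * (x t d)⁻¹ = if ip D A t q = -1 then x q u * x (sumI A q t) (u * d) else x q u := by
  rcases eq_or_ne t q with rfl | hne
  · rw [if_neg (by rw [hf.self t ht]; omega), xG_inv, xG_add, xG_add]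
    congr 1
    ring
  · rw [mul_inv_eq_iff_eq_mul]
    have e := swap h hq ht hne u d
    split_ifs with hip
    · rw [hf.symm t q ht hq] at hip
      obtain ⟨hu, -⟩ := hf.sum q t hq ht hip
      rw [e, hf.odd q t hq ht hne.symm hip]
      simp only [List.map_cons, List.map_nil, List.prod_cons, List.prod_nil, mul_one, pow_one]
      -- the sum commutes with the summand
      set w := sumI A q t
      have hipw : ip D A t w ≠ -1 := by
        rw [ip_lin (a := q) (b := t) (i := 1) (k := 1) fun j hj => by rw [(hf.sum q t hq ht hip).2 j hj]; ring,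
          hf.symm t q ht hq, hip, hf.self t ht]
        omega
      have hwt : w ≠ t := fun e => by
        have h2 := hf.self t ht
        have := ip_lin (r := t) (a := q) (b := t) (u := w) (i := 1) (k := 1) fun j hj => by
          rw [(hf.sum q t hq ht hip).2 j hj]; ring
        rw [e, h2, hf.symm t q ht hq, hip] at this
        omega
      have e2 := swap h ht hu hwt d (u * d)
      rw [hf.even t w ht hu hwt.symm hipw] at e2
      simp only [List.map_nil, List.prod_nil, mul_one] at e2
      rw [mul_assoc (x q u), mul_assoc (x q u), e2]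
    · rw [e, hf.even q t hq ht hne.symm (by rwa [hf.symm q t hq ht]), List.map_nil, List.prod_nil, mul_one]

omit hf in
/-- indices increase along sums -/
lemma lt_sum {a b u : ℕ} (ha : D.IsPosRoot a) (hb : D.IsPosRoot b) (hu : D.IsPosRoot u)
    (e : ∀ j < D.rank, A.a u j = A.a a j + A.a b j) : a < u ∧ b < u := by
  have hc := code_lin (D := D) (A := A) (r := a) (s := b) (u := u) 1 1 fun j hj => by rw [e j hj]; ring
  have pa := (pos_iff_code h ha.1).1 ha
  have pb := (pos_iff_code h hb.1).1 hb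
  exact ⟨(code_lt_iff h ha.1 hu.1).1 (by omega), (code_lt_iff h hb.1 hu.1).1 (by omega)⟩

lemma sum_facts {a b : ℕ} (ha : D.IsPosRoot a) (hb : D.IsPosRoot b) (e : ip D A a b = -1) :
    D.IsPosRoot (sumI A a b) ∧ a < sumI A a b ∧ b < sumI A a b ∧
      ∀ r, ip D A r (sumI A a b) = ip D A r a + ip D A r b := by
  obtain ⟨hu, hl⟩ := hf.sum a b ha hb e
  obtain ⟨h1, h2⟩ := lt_sum h ha hb hu hl
  refine ⟨hu, h1, h2, fun r => ?_⟩
  rw [ip_lin (a := a) (b := b) (i := 1) (k := 1) fun j hj => by rw [hl j hj]; ring]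
  ring

/-- splitting off the least root -/
lemma split_least {P : ℕ → Prop} (hP : ∀ r, P r → D.IsPosRoot r) (hC : ClosedP D A P) {k : ℕ}
    (hk : P k) (hmin : ∀ r, P r → k ≤ r) {y : GL D.Idx F} (hy : y ∈ UP F h.good P) :
    ∃ c, ∃ w ∈ UP F h.good (fun r => P r ∧ k < r), y = x k c * w := by
  set U' := UP F h.good (fun r => P r ∧ k < r)
  have hn : ∀ c : F, ∀ w ∈ U', x k c * w * (x k c)⁻¹ ∈ U' := by
    intro c w hw
    suffices U' ≤ U'.comap (MulAut.conj (x k c)).toMonoidHom from this hw
    refine UP_le fun q u hq => ?_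
    show x k c * x q u * (x k c)⁻¹ ∈ U'
    rw [conj_root h hf (hP k hk) (hP q hq.1)]
    split_ifs with e
    · rw [hf.symm k q (hP k hk) (hP q hq.1)] at e
      obtain ⟨-, h1, h2, -⟩ := sum_facts h hf (hP q hq.1) (hP k hk) e
      exact mul_mem (xG_mem_UP h.good hq u) (xG_mem_UP h.good (P := fun r => P r ∧ k < r) ⟨hC q k hq.1 hk e, h2⟩ _)
    · exact xG_mem_UP h.good hq u
  induction hy using Subgroup.closure_induction with
  | one => exact ⟨0, 1, one_mem _, by rw [xG_zero, one_mul]⟩
  | mul a b _ _ iha ihb =>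
    obtain ⟨c, v, hv, rfl⟩ := iha
    obtain ⟨d, w, hw, rfl⟩ := ihb
    refine ⟨c + d, (x k d)⁻¹ * v * x k d * w, mul_mem ?_ hw, ?_⟩
    · rw [xG_inv, ← inv_inv (x k d), xG_inv]
      exact hn (-d) v hv
    · rw [← xG_add]; group
  | inv a _ iha =>
    obtain ⟨c, v, hv, rfl⟩ := iha
    refine ⟨-c, x k c * v⁻¹ * (x k c)⁻¹, hn c _ (inv_mem hv), ?_⟩
    rw [← xG_inv]
    group
  | mem a ha =>
    obtain ⟨q, u, hq, rfl⟩ := ha
    rcases eq_or_lt_of_le (hmin q hq) with rfl | hlt
    · exact ⟨u, 1, one_mem _, by rw [mul_one]⟩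
    · exact ⟨0, _, xG_mem_UP h.good (P := fun r => P r ∧ k < r) ⟨hq, hlt⟩ u, by rw [xG_zero, one_mul]⟩

omit hf [CharP F 2] in
lemma UP_mono {P Q : ℕ → Prop} (hPQ : ∀ r, P r → Q r) : UP F h.good P ≤ UP F h.good Q :=
  UP_le fun r t hr => xG_mem_UP h.good (hPQ r hr) t

/-- elements of a closed subgroup have coordinates supported there -/
lemma coords {P : ℕ → Prop} (hP : ∀ r, P r → D.IsPosRoot r) (hC : ClosedP D A P) {y : GL D.Idx F}
    (hy : y ∈ UP F h.good P) :
    ∃ T : ℕ → F, (∀ r, T r ≠ 0 → P r) ∧ y = pw h.good D.posRoots T := by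
  classical
  suffices H : ∀ L : List ℕ, UpList D L → ∀ y ∈ UP F h.good (fun r => P r ∧ r ∈ L),
      ∃ T : ℕ → F, (∀ r, T r ≠ 0 → P r) ∧ y = pw h.good L T from
    H _ upList_posRoots y (UP_mono h (fun r hr => ⟨hr, posRoots_mem.2 (hP r hr)⟩) hy)
  intro L
  induction L with
  | nil =>
    intro _ y hy
    refine ⟨0, fun r hr => absurd rfl hr, ?_⟩
    have : UP F h.good (fun r => P r ∧ r ∈ ([] : List ℕ)) ≤ (⊥ : Subgroup (GL D.Idx F)) :=
      UP_le fun r t hr => absurd hr.2 List.not_mem_nil
    rw [Subgroup.mem_bot.1 (this hy)]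
    rfl
  | cons k L ih =>
    intro hL y hy
    have hk : ∀ r ∈ L, k < r := (List.pairwise_cons.1 hL.sorted).1
    by_cases hkP : P k
    · have hC' : ClosedP D A fun r => P r ∧ r ∈ k :: L := fun a b ha hb e => by
        obtain ⟨hu, h1, -, -⟩ := sum_facts h hf (hP a ha.1) (hP b hb.1) e
        exact ⟨hC a b ha.1 hb.1 e, hL.up a ha.2 _ hu h1⟩
      obtain ⟨c, w, hw, rfl⟩ := split_least h hf (fun r hr => hP r hr.1) hC' (k := k)
        ⟨hkP, List.mem_cons_self⟩ (fun r hr => by
          rcases List.mem_cons.1 hr.2 with e | e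
          · exact e.ge
          · exact (hk r e).le) hy
      obtain ⟨T, hT, rfl⟩ := ih hL.tail w (UP_mono h (fun r hr => ⟨hr.1.1,
        (List.mem_cons.1 hr.1.2).resolve_left hr.2.ne'⟩) hw)
      refine ⟨Function.update T k c, fun r hr => ?_, ?_⟩
      · rcases eq_or_ne r k with rfl | hne
        · exact hkP
        · exact hT r (by rwa [Function.update_of_ne hne] at hr)
      · simp only [pw, List.map_cons, List.prod_cons, Function.update_self]
        congr 2
        refine List.map_congr_left fun r hr => ?_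
        rw [Function.update_of_ne (hk r hr).ne']
    · obtain ⟨T, hT, rfl⟩ := ih hL.tail y (UP_mono h (fun r hr => ⟨hr.1,
        (List.mem_cons.1 hr.2).resolve_left fun e => hkP (e ▸ hr.1)⟩) hy)
      refine ⟨Function.update T k 0, fun r hr => ?_, ?_⟩
      · rcases eq_or_ne r k with rfl | hne
        · exact absurd (Function.update_self (f := T) r 0) hr
        · exact hT r (by rwa [Function.update_of_ne hne] at hr)
      · simp only [pw, List.map_cons, List.prod_cons, Function.update_self, xG_zero, one_mul]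
        congr 1
        refine List.map_congr_left fun r hr => ?_
        rw [Function.update_of_ne (hk r hr).ne']

/-- a root element outside a closed subgroup is trivial -/
lemma outside {P : ℕ → Prop} (hP : ∀ r, P r → D.IsPosRoot r) (hC : ClosedP D A P) {u : ℕ}
    (hu : D.IsPosRoot u) (hnu : ¬ P u) {c : F} (hy : x u c ∈ UP F h.good P) : c = 0 := by
  classical
  obtain ⟨T, hT, e⟩ := coords h hf hP hC hy
  have e' : x u c = pw h.good D.posRoots (fun r => if r = u then c else 0) := by
    have hm := posRoots_mem.2 hu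
    have : ∀ L : List ℕ, L.Nodup → pw h.good L (fun r => if r = u then c else 0) =
        if u ∈ L then x u c else 1 := by
      intro L hnd
      induction L with
      | nil => rfl
      | cons a L ih =>
        simp only [pw, List.map_cons, List.prod_cons] at ih ⊢
        rw [ih (List.nodup_cons.1 hnd).2]
        rcases eq_or_ne a u with rfl | hne
        · rw [if_pos rfl, if_neg (List.nodup_cons.1 hnd).1, if_pos List.mem_cons_self, mul_one]
        · rw [if_neg hne, xG_zero, one_mul]
          simp [hne.symm]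
    rw [this _ (upList_posRoots.sorted.imp ne_of_lt), if_pos hm]
  have := pw_inj h upList_posRoots (e'.symm.trans e) u (posRoots_mem.2 hu)
  rw [if_pos rfl] at this
  by_contra hc
  exact hnu (hT u (this ▸ hc))

omit [CharP F 2] in
lemma perp_closed (O : List ℕ) (hO : ∀ o ∈ O, D.IsPosRoot o) : ClosedP D A (Perp D A O) := by
  intro a b ha hb e
  obtain ⟨hu, -, -, hl⟩ := sum_facts h hf ha.1 hb.1 e
  exact ⟨hu, fun o ho => by rw [hl, ha.2 o ho, hb.2 o ho, add_zero]⟩

/-- root elements of orthogonal roots commute -/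
lemma commute_perp {a b : ℕ} (ha : D.IsPosRoot a) (hb : D.IsPosRoot b) (e : ip D A a b ≠ -1) (t u : F) :
    Commute (x a t) (x b u) := by
  have := conj_root h hf ha hb t u
  rw [if_neg e] at this
  exact mul_inv_eq_iff_eq_mul.1 this

omit [CharP F 2] in
lemma ge_closed {P : ℕ → Prop} (hP : ∀ r, P r → D.IsPosRoot r) (hC : ClosedP D A P) (k : ℕ) :
    ClosedP D A fun r => P r ∧ k < r := fun a b ha hb e =>
  ⟨hC a b ha.1 hb.1 e, ha.2.trans (sum_facts h hf (hP a ha.1) (hP b hb.1) e).2.1⟩

/-- conjugation reducing the roots meeting the leading root positively -/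
lemma kill_pos {O : List ℕ} (hO : ∀ o ∈ O, D.IsPosRoot o) {r : ℕ} (hr : Perp D A O r) {c : F} (hc : c ≠ 0)
    {w : GL D.Idx F} (hw : w ∈ UP F h.good (fun q => Perp D A O q ∧ r < q)) :
    ∃ g ∈ UP F h.good (Perp D A O), ∃ w' ∈ UP F h.good (fun q => (Perp D A O q ∧ r < q) ∧ ip D A r q ≤ 0),
      g * (x r c * w) * g⁻¹ = x r c * w' := by
  suffices H : ∀ n k : ℕ, D.nroots ≤ k + n →
      ∀ w ∈ UP F h.good (fun q => (Perp D A O q ∧ r < q) ∧ (ip D A r q ≤ 0 ∨ k ≤ q)),
      ∃ g ∈ UP F h.good (Perp D A O), ∃ w' ∈ UP F h.good (fun q => (Perp D A O q ∧ r < q) ∧ ip D A r q ≤ 0),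
        g * (x r c * w) * g⁻¹ = x r c * w' from
    H D.nroots 0 (by simp) w (UP_mono h (fun q hq => ⟨hq, .inr (Nat.zero_le _)⟩) hw)
  intro n
  induction n with
  | zero =>
    intro k hk w hw
    refine ⟨1, one_mem _, w, UP_mono h (fun q hq => ⟨hq.1, hq.2.resolve_right fun hkq => ?_⟩) hw, by simp⟩
    have := hq.1.1.1.1
    omega
  | succ n ih =>
    intro k hk w hw
    by_cases hkP : (Perp D A O k ∧ r < k) ∧ ¬ ip D A r k ≤ 0
    swap
    · refine ih (k + 1) (by omega) w (UP_mono h (fun q hq => ⟨hq.1, ?_⟩) hw)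
      rcases hq.2 with e | e
      · exact .inl e
      · rcases eq_or_lt_of_le e with rfl | e'
        · exact .inl (not_not.1 fun hn => hkP ⟨hq.1, hn⟩)
        · exact .inr e'
    obtain ⟨⟨hkp, hrk⟩, hip⟩ := hkP
    have hipk : ip D A r k = 1 := by
      have := hf.bound r k hr.1 hkp.1 hrk.ne
      omega
    obtain ⟨t, ht, hta⟩ := hf.diff k r hkp.1 hr.1 hrk (by rw [hf.symm k r hkp.1 hr.1, hipk])
    have hlt : ∀ o, ip D A o t = ip D A o k - ip D A o r := fun o => by
      rw [ip_lin (a := k) (b := r) (i := 1) (k := -1) fun j hj => by rw [hta j hj]; ring]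
      ring
    have htO : Perp D A O t := ⟨ht, fun o ho => by rw [hlt, hkp.2 o ho, hr.2 o ho, sub_zero]⟩
    have hrt : ip D A r t = -1 := by rw [hlt, hipk, hf.self r hr.1]; rfl
    have htk : ip D A k t = 1 := by
      rw [hlt, hf.self k hkp.1, hf.symm k r hkp.1 hr.1, hipk]; rfl
    -- the sum of the leading root and the difference
    obtain ⟨hu, hul⟩ := hf.sum r t hr.1 ht hrt
    have hsum : sumI A r t = k := h.good.a_inj _ hu.1 _ hkp.1.1 fun j hj => by
      rw [hul j hj, hta j hj]; ring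
    set P := fun q => (Perp D A O q ∧ r < q) ∧ (ip D A r q ≤ 0 ∨ k ≤ q) with hPdef
    set P' := fun q => (Perp D A O q ∧ r < q) ∧ (ip D A r q ≤ 0 ∨ k + 1 ≤ q)
    have hP : ∀ q, P q → D.IsPosRoot q := fun q hq => hq.1.1.1
    have hPC : ∀ k, ClosedP D A fun q => (Perp D A O q ∧ r < q) ∧ (ip D A r q ≤ 0 ∨ k ≤ q) := by
      intro k a b ha hb e
      obtain ⟨hu, h1, h2, hl⟩ := sum_facts h hf ha.1.1.1 hb.1.1.1 e
      refine ⟨⟨perp_closed h hf O hO a b ha.1.1 hb.1.1 e, ha.1.2.trans h1⟩, ?_⟩
      rcases ha.2 with ha' | ha'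
      · rcases hb.2 with hb' | hb'
        · exact .inl (by rw [hl]; omega)
        · exact .inr (by omega)
      · exact .inr (by omega)
    -- split off the root to be removed
    have hkm : ∀ q, P q → k ≤ q ∨ ip D A r q ≤ 0 := fun q hq => hq.2.symm
    obtain ⟨z, v, hv, rfl⟩ : ∃ z, ∃ v ∈ UP F h.good P', w = x k z * v := by
      have hn : ∀ (z : F), ∀ v ∈ UP F h.good P', x k z * v * (x k z)⁻¹ ∈ UP F h.good P' := by
        intro z v hv
        suffices UP F h.good P' ≤ (UP F h.good P').comap (MulAut.conj (x k z)).toMonoidHom from this hv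
        refine UP_le fun q u hq => ?_
        show x k z * x q u * (x k z)⁻¹ ∈ UP F h.good P'
        rw [conj_root h hf hkp.1 hq.1.1.1]
        split_ifs with e
        · rw [hf.symm k q hkp.1 hq.1.1.1] at e
          obtain ⟨hu', h1, h2, -⟩ := sum_facts h hf hq.1.1.1 hkp.1 e
          exact mul_mem (xG_mem_UP h.good hq u) (xG_mem_UP h.good (P := P')
            ⟨⟨perp_closed h hf O hO q k hq.1.1 hkp e, hq.1.2.trans h1⟩, .inr h2⟩ _)
        · exact xG_mem_UP h.good hq u
      induction hw using Subgroup.closure_induction with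
      | one => exact ⟨0, 1, one_mem _, by rw [xG_zero, one_mul]⟩
      | mul a b _ _ iha ihb =>
        obtain ⟨z, v, hv, rfl⟩ := iha
        obtain ⟨z', v', hv', rfl⟩ := ihb
        refine ⟨z + z', (x k z')⁻¹ * v * x k z' * v', mul_mem ?_ hv', ?_⟩
        · rw [xG_inv, ← inv_inv (x k z'), xG_inv]
          exact hn (-z') v hv
        · rw [← xG_add]; group
      | inv a _ iha =>
        obtain ⟨z, v, hv, rfl⟩ := iha
        refine ⟨-z, x k z * v⁻¹ * (x k z)⁻¹, hn z _ (inv_mem hv), ?_⟩
        rw [← xG_inv]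
        group
      | mem a ha =>
        obtain ⟨q, u, hq, rfl⟩ := ha
        rcases eq_or_ne q k with rfl | hne
        · exact ⟨u, 1, one_mem _, by rw [mul_one]⟩
        · refine ⟨0, _, xG_mem_UP h.good (P := P') ⟨hq.1, ?_⟩ u, by rw [xG_zero, one_mul]⟩
          exact hq.2.imp_right fun e => by omega
    set d := z / c
    set g := x t d with hg
    have hgv : g * v * g⁻¹ ∈ UP F h.good P' := by
      suffices UP F h.good P' ≤ (UP F h.good P').comap (MulAut.conj g).toMonoidHom from this hv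
      refine UP_le fun q u hq => ?_
      show x t d * x q u * (x t d)⁻¹ ∈ UP F h.good P'
      rw [conj_root h hf ht hq.1.1.1]
      split_ifs with e
      · rw [hf.symm t q ht hq.1.1.1] at e
        obtain ⟨hu', h1, -, -⟩ := sum_facts h hf hq.1.1.1 ht e
        refine mul_mem (xG_mem_UP h.good hq u) (xG_mem_UP h.good (P := P')
          ⟨⟨perp_closed h hf O hO q t hq.1.1 htO e, hq.1.2.trans h1⟩, .inr ?_⟩ _)
        have hc1 := code_lin (D := D) (A := A) (r := q) (s := t) (u := sumI A q t) 1 1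
          fun j hj => by rw [(hf.sum q t hq.1.1.1 ht e).2 j hj]; ring
        have hc2 := code_lin (D := D) (A := A) (r := r) (s := t) (u := k) 1 1
          fun j hj => by rw [hta j hj]; ring
        have hc3 := code_mono h hq.1.2 hq.1.1.1.1
        exact (code_lt_iff h hkp.1.1 hu'.1).1 (by omega)
      · exact xG_mem_UP h.good hq u
    have e1 : g * x r c * g⁻¹ = x r c * x k z := by
      rw [hg, conj_root h hf ht hr.1, if_pos (by rw [hf.symm t r ht hr.1, hrt]), hsum, mul_div_cancel₀ z hc]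
    have e2 : g * x k z * g⁻¹ = x k z := by
      rw [hg, conj_root h hf ht hkp.1, if_neg (by rw [hf.symm t k ht hkp.1, htk]; omega)]
    obtain ⟨g', hg', w', hw', e'⟩ := ih (k + 1) (by omega) _ hgv
    refine ⟨g' * g, mul_mem hg' (xG_mem_UP h.good htO d), w', hw', ?_⟩
    rw [← e']
    have : g * (x r c * (x k z * v)) * g⁻¹ = x r c * (g * v * g⁻¹) := by
      rw [← conj_mul, ← conj_mul, e1, e2, mul_assoc, ← mul_assoc (x k z) (x k z), xG_add,
        CharTwo.add_self_eq_zero, xG_zero, one_mul]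
    rw [← this]
    group

/-- an involution leaves no root meeting the leading root negatively -/
lemma kill_neg {O : List ℕ} (hO : ∀ o ∈ O, D.IsPosRoot o) {r : ℕ} (hr : Perp D A O r) {c : F} (hc : c ≠ 0)
    {w : GL D.Idx F} (hw : w ∈ UP F h.good (fun q => (Perp D A O q ∧ r < q) ∧ ip D A r q ≤ 0))
    (hsq : x r c * w * (x r c * w) = 1) :
    w ∈ UP F h.good (fun q => (Perp D A O q ∧ r < q) ∧ ip D A r q = 0) := by
  suffices H : ∀ n k : ℕ, D.nroots ≤ k + n →
      w ∈ UP F h.good (fun q => (Perp D A O q ∧ r < q) ∧ (ip D A r q = 0 ∨ (ip D A r q ≤ 0 ∧ k ≤ q))) →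
      w ∈ UP F h.good (fun q => (Perp D A O q ∧ r < q) ∧ ip D A r q = 0) from
    H D.nroots 0 (by simp) (UP_mono h (fun q hq => ⟨hq.1, .inr ⟨hq.2, Nat.zero_le _⟩⟩) hw)
  intro n
  induction n with
  | zero =>
    intro k hk hw
    refine UP_mono h (fun q hq => ⟨hq.1, hq.2.resolve_right fun hkq => ?_⟩) hw
    have := hq.1.1.1.1
    omega
  | succ n ih =>
    intro k hk hw
    by_cases hkP : (Perp D A O k ∧ r < k) ∧ ip D A r k < 0
    swap
    · refine ih (k + 1) (by omega) (UP_mono h (fun q hq => ⟨hq.1, ?_⟩) hw)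
      rcases hq.2 with e | ⟨e, e'⟩
      · exact .inl e
      · rcases eq_or_lt_of_le e' with rfl | e''
        · exact .inl (le_antisymm e (not_lt.1 fun hn => hkP ⟨hq.1, hn⟩))
        · exact .inr ⟨e, e''⟩
    obtain ⟨⟨hkp, hrk⟩, hip⟩ := hkP
    have hipk : ip D A r k = -1 := by
      have := hf.bound r k hr.1 hkp.1 hrk.ne
      omega
    set P := fun q => (Perp D A O q ∧ r < q) ∧ (ip D A r q = 0 ∨ (ip D A r q ≤ 0 ∧ k ≤ q))
    set P' := fun q => (Perp D A O q ∧ r < q) ∧ (ip D A r q = 0 ∨ (ip D A r q ≤ 0 ∧ k + 1 ≤ q))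
    obtain ⟨u, hu1, hu2⟩ : ∃ u, u = sumI A k r ∧ ip D A k r = -1 := ⟨_, rfl, by rw [hf.symm k r hkp.1 hr.1, hipk]⟩
    obtain ⟨hup, hku, hru, hul⟩ := sum_facts h hf hkp.1 hr.1 hu2
    rw [← hu1] at hup hku hru hul
    -- split off the root to be excluded
    obtain ⟨z, v, hv, hwe⟩ : ∃ z, ∃ v ∈ UP F h.good P', w = x k z * v := by
      have hn : ∀ (z : F), ∀ v ∈ UP F h.good P', x k z * v * (x k z)⁻¹ ∈ UP F h.good P' := by
        intro z v hv
        suffices UP F h.good P' ≤ (UP F h.good P').comap (MulAut.conj (x k z)).toMonoidHom from this hv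
        refine UP_le fun q s hq => ?_
        show x k z * x q s * (x k z)⁻¹ ∈ UP F h.good P'
        rw [conj_root h hf hkp.1 hq.1.1.1]
        split_ifs with e
        · rw [hf.symm k q hkp.1 hq.1.1.1] at e
          obtain ⟨-, h1, h2, hl⟩ := sum_facts h hf hq.1.1.1 hkp.1 e
          refine mul_mem (xG_mem_UP h.good hq s) (xG_mem_UP h.good (P := P')
            ⟨⟨perp_closed h hf O hO q k hq.1.1 hkp e, hq.1.2.trans h1⟩, .inr ⟨?_, h2⟩⟩ _)
          rw [hl, hipk]
          rcases hq.2 with e' | e' <;> omega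
        · exact xG_mem_UP h.good hq s
      suffices ∀ y ∈ UP F h.good P, ∃ z, ∃ v ∈ UP F h.good P', y = x k z * v from this w hw
      intro y hy
      induction hy using Subgroup.closure_induction with
      | one => exact ⟨0, 1, one_mem _, by rw [xG_zero, one_mul]⟩
      | mul a b _ _ iha ihb =>
        obtain ⟨z, v, hv, rfl⟩ := iha
        obtain ⟨z', v', hv', rfl⟩ := ihb
        refine ⟨z + z', (x k z')⁻¹ * v * x k z' * v', mul_mem ?_ hv', ?_⟩
        · rw [xG_inv, ← inv_inv (x k z'), xG_inv]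
          exact hn (-z') v hv
        · rw [← xG_add]; group
      | inv a _ iha =>
        obtain ⟨z, v, hv, rfl⟩ := iha
        refine ⟨-z, x k z * v⁻¹ * (x k z)⁻¹, hn z _ (inv_mem hv), ?_⟩
        rw [← xG_inv]
        group
      | mem a ha =>
        obtain ⟨q, s, hq, rfl⟩ := ha
        rcases eq_or_ne q k with rfl | hne
        · exact ⟨s, 1, one_mem _, by rw [mul_one]⟩
        · refine ⟨0, _, xG_mem_UP h.good (P := P') ⟨hq.1, ?_⟩ s, by rw [xG_zero, one_mul]⟩
          exact hq.2.imp_right fun e => ⟨e.1, by omega⟩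
    -- the square puts a root element into a closed subgroup avoiding it
    set M := fun q => D.IsPosRoot q ∧ (ip D A r q ≤ 0 ∨ u < q)
    have hMC : ClosedP D A M := by
      intro a b ha hb e
      obtain ⟨hs, h1, h2, hl⟩ := sum_facts h hf ha.1 hb.1 e
      refine ⟨hs, ?_⟩
      rcases ha.2 with ha' | ha'
      · rcases hb.2 with hb' | hb'
        · exact .inl (by rw [hl]; omega)
        · exact .inr (by omega)
      · exact .inr (by omega)
    have hPM : ∀ q, P q → M q := fun q hq => ⟨hq.1.1.1, .inl (by rcases hq.2 with e | e <;> omega)⟩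
    have hcv : x r c * v * (x r c)⁻¹ ∈ UP F h.good M := by
      suffices UP F h.good P' ≤ (UP F h.good M).comap (MulAut.conj (x r c)).toMonoidHom from this hv
      refine UP_le fun q s hq => ?_
      show x r c * x q s * (x r c)⁻¹ ∈ UP F h.good M
      rw [conj_root h hf hr.1 hq.1.1.1]
      have hqM : M q := ⟨hq.1.1.1, .inl (by rcases hq.2 with e | e <;> omega)⟩
      split_ifs with e
      · have hkq : k < q := by rcases hq.2 with e' | ⟨-, e'⟩ <;> omega
        rw [hf.symm r q hr.1 hq.1.1.1] at e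
        obtain ⟨hs, -, -, -⟩ := sum_facts h hf hq.1.1.1 hr.1 e
        refine mul_mem (xG_mem_UP h.good hqM s) (xG_mem_UP h.good (P := M) ⟨hs, .inr ?_⟩ _)
        have hc1 := code_lin (D := D) (A := A) (r := q) (s := r) (u := sumI A q r) 1 1
          fun j hj => by rw [(hf.sum q r hq.1.1.1 hr.1 e).2 j hj]; ring
        have hc2 := code_lin (D := D) (A := A) (r := k) (s := r) (u := u) 1 1
          fun j hj => by rw [hu1, (hf.sum k r hkp.1 hr.1 hu2).2 j hj]; ring
        have hc3 := code_mono h hkq hq.1.1.1.1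
        exact (code_lt_iff h hup.1 hs.1).1 (by omega)
      · exact xG_mem_UP h.good hqM s
    have hck : x r c * x k z * (x r c)⁻¹ = x k z * x u (z * c) := by
      rw [conj_root h hf hr.1 hkp.1, if_pos hipk, hu1]
    have hmem : x u (z * c) ∈ UP F h.good M := by
      have e1 : x k z * x u (z * c) * (x r c * v * (x r c)⁻¹) = w⁻¹ := by
        have h2 : x r c * x r c = 1 := by rw [xG_add, CharTwo.add_self_eq_zero, xG_zero]
        rw [← hck, conj_mul, ← hwe, inv_eq_of_mul_eq_one_right h2]
        exact (inv_eq_of_mul_eq_one_left (by rw [← hsq]; group)).symm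
      have e2 : x u (z * c) = (x k z)⁻¹ * w⁻¹ * (x r c * v * (x r c)⁻¹)⁻¹ := by rw [← e1]; group
      rw [e2]
      exact mul_mem (mul_mem (inv_mem (xG_mem_UP h.good (P := M) ⟨hkp.1, .inl (by omega)⟩ z))
        (inv_mem (UP_mono h hPM hw))) (inv_mem hcv)
    have hz : z = 0 := by
      have := outside h hf (fun q hq => hq.1) hMC hup (fun hu' => by
        rcases hu'.2 with e | e
        · rw [hul, hipk, hf.self r hr.1] at e; omega
        · omega) hmem
      exact (mul_eq_zero.1 this).resolve_right hc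
    refine ih (k + 1) (by omega) ?_
    rw [hwe, hz, xG_zero, one_mul]
    exact hv

/-- every involution is conjugate to a product of orthogonal root elements -/
theorem orth_reduce {y : GL D.Idx F} (hy : y ∈ D.posUnipotent F) (h2 : y * y = 1) :
    ∃ g ∈ D.posUnipotent F, ∃ L : List ℕ, (∀ r ∈ L, D.IsPosRoot r) ∧
      L.Pairwise (fun a b => ip D A a b = 0) ∧ ∃ T : ℕ → F, (∀ r ∈ L, T r ≠ 0) ∧
        g * y * g⁻¹ = pw h.good L T := by
  classical
  suffices H : ∀ n k : ℕ, D.nroots ≤ k + n → ∀ O : List ℕ, (∀ o ∈ O, D.IsPosRoot o) →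
      ∀ y ∈ UP F h.good (fun q => Perp D A O q ∧ k ≤ q), y * y = 1 →
      ∃ g ∈ UP F h.good (Perp D A O), ∃ L : List ℕ, (∀ r ∈ L, Perp D A O r ∧ k ≤ r) ∧
        L.Pairwise (fun a b => ip D A a b = 0) ∧ ∃ T : ℕ → F, (∀ r ∈ L, T r ≠ 0) ∧
          g * y * g⁻¹ = pw h.good L T by
    have hU : D.posUnipotent F = UP F h.good fun q => D.IsPosRoot q := posUnipotent_eq h.good
    obtain ⟨g, hg, L, hL, hp, T, hT, e⟩ := H D.nroots 0 (by simp) [] (by simp) y
      (UP_mono h (fun q hq => ⟨⟨hq, by simp⟩, Nat.zero_le _⟩) (hU ▸ hy)) h2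
    exact ⟨g, hU ▸ UP_mono h (fun q hq => hq.1) hg, L, fun r hr => (hL r hr).1.1, hp, T, hT, e⟩
  intro n
  induction n with
  | zero =>
    intro k hk O _ y hy _
    have : y = 1 := Subgroup.mem_bot.1 ((UP_le (K := ⊥) fun q t hq => by
      have := hq.1.1.1
      omega) hy)
    exact ⟨1, one_mem _, [], by simp, List.Pairwise.nil, 0, by simp, by simp [this, pw]⟩
  | succ n ih =>
    intro k hk O hO y hy h2
    by_cases hkO : Perp D A O k
    swap
    · obtain ⟨g, hg, L, hL, rest⟩ := ih (k + 1) (by omega) O hO y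
        (UP_mono h (fun q hq => ⟨hq.1, by rcases eq_or_lt_of_le hq.2 with rfl | e; exacts [absurd hq.1 hkO, e]⟩) hy) h2
      exact ⟨g, hg, L, fun r hr => ⟨(hL r hr).1, by have := (hL r hr).2; omega⟩, rest⟩
    obtain ⟨c, w, hw, rfl⟩ := split_least h hf (fun q hq => hq.1.1)
      (fun a b ha hb e => ⟨perp_closed h hf O hO a b ha.1 hb.1 e,
        ha.2.trans (sum_facts h hf ha.1.1 hb.1.1 e).2.1.le⟩)
      (k := k) ⟨hkO, le_rfl⟩ (fun q hq => hq.2) hy
    have hw' : w ∈ UP F h.good (fun q => Perp D A O q ∧ k < q) := UP_mono h (fun q hq => ⟨hq.1.1, hq.2⟩) hw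
    rcases eq_or_ne c 0 with rfl | hc
    · rw [xG_zero, one_mul] at h2 ⊢
      obtain ⟨g, hg, L, hL, rest⟩ := ih (k + 1) (by omega) O hO w hw' h2
      exact ⟨g, hg, L, fun r hr => ⟨(hL r hr).1, by have := (hL r hr).2; omega⟩, rest⟩
    obtain ⟨g₁, hg₁, w₁, hw₁, e₁⟩ := kill_pos h hf hO hkO hc hw'
    have hs1 : x k c * w₁ * (x k c * w₁) = 1 := by rw [← e₁, conj_mul, h2, mul_one, mul_inv_cancel]
    have hw0 := kill_neg h hf hO hkO hc hw₁ hs1
    have hcomm : ∀ (s : F), ∀ g ∈ UP F h.good (fun q => Perp D A O q ∧ ip D A k q = 0), Commute (x k s) g := by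
      intro s g hg
      suffices UP F h.good (fun q => Perp D A O q ∧ ip D A k q = 0) ≤ Subgroup.centralizer {x k s} from
        (Subgroup.mem_centralizer_singleton_iff.1 (this hg)).symm
      refine UP_le fun q t hq => Subgroup.mem_centralizer_singleton_iff.2 ?_
      exact (commute_perp h hf hkO.1 hq.1.1 (by rw [hq.2]; omega) s t).symm
    have hcw : Commute (x k c) w₁ := hcomm c w₁ (UP_mono h (fun q hq => ⟨hq.1.1, hq.2⟩) hw0)
    have hw2 : w₁ * w₁ = 1 := by
      rw [← hs1, show x k c * w₁ * (x k c * w₁) = x k c * (w₁ * x k c) * w₁ by group, ← hcw.eq]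
      rw [show x k c * (x k c * w₁) * w₁ = (x k c * x k c) * (w₁ * w₁) by group, xG_add,
        CharTwo.add_self_eq_zero, xG_zero, one_mul]
    obtain ⟨g₂, hg₂, L, hL, hp, T, hT, e₂⟩ := ih (k + 1) (by omega) (k :: O)
      (by simpa using ⟨hkO.1, hO⟩) w₁ (UP_mono h (fun q hq => ⟨⟨hq.1.1.1, by
        simpa using ⟨hq.2, hq.1.1.2⟩⟩, hq.1.2⟩) hw0) hw2
    have hkL : k ∉ L := fun hm => by have := (hL k hm).2; omega
    refine ⟨g₂ * g₁, mul_mem (UP_mono h (fun q hq => ⟨hq.1, fun o ho => hq.2 o (List.mem_cons_of_mem _ ho)⟩) hg₂) hg₁,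
      k :: L, ?_, ?_, Function.update T k c, ?_, ?_⟩
    · intro r hr
      rcases List.mem_cons.1 hr with rfl | hr
      · exact ⟨hkO, le_rfl⟩
      · exact ⟨⟨(hL r hr).1.1, fun o ho => (hL r hr).1.2 o (List.mem_cons_of_mem _ ho)⟩,
          by have := (hL r hr).2; omega⟩
    · exact List.pairwise_cons.2 ⟨fun r hr => (hL r hr).1.2 k List.mem_cons_self, hp⟩
    · intro r hr
      rcases eq_or_ne r k with rfl | hne
      · rwa [Function.update_self]
      · rw [Function.update_of_ne hne]
        exact hT r ((List.mem_cons.1 hr).resolve_left hne)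
    · have hck : Commute (x k c) g₂ :=
        hcomm c g₂ (UP_mono h (fun q hq => ⟨⟨hq.1, fun o ho => hq.2 o (List.mem_cons_of_mem _ ho)⟩,
          hq.2 k List.mem_cons_self⟩) hg₂)
      have : pw h.good (k :: L) (Function.update T k c) = x k c * pw h.good L T := by
        simp only [pw, List.map_cons, List.prod_cons, Function.update_self]
        congr 2
        refine List.map_congr_left fun r hr => ?_
        rw [Function.update_of_ne fun (e : r = k) => hkL (e ▸ hr)]
      rw [this, ← e₂]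
      rw [show g₂ * g₁ * (x k c * w) * (g₂ * g₁)⁻¹ = g₂ * (g₁ * (x k c * w) * g₁⁻¹) * g₂⁻¹ by group, e₁,
        show x k c * (g₂ * w₁ * g₂⁻¹) = (x k c * g₂) * w₁ * g₂⁻¹ by group, hck.eq]
      group

end CfsgLib.Chev.SLInv
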