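/-
Reduction of products of orthogonal root elements to a list of representatives by tables of Weyl words.
-/
import Cfsg.Agent.Lib.Chev.SLInvol.Orth
import Cfsg.Agent.Lib.Chev.Twist.WordEq

set_option autoImplicit false
set_option maxRecDepth 100000
set_option maxHeartbeats 1000000

namespace CfsgLib.Chev.SLInv

open Cfsg.Lie Matrix CfsgLib.Chev

variable (D : ChevalleyDatum) (A : Aux)

/-- the pairing through coroots -/
noncomputable def prL (r s : ℕ) : ℤ := ((List.range D.rank).map fun i => A.coro r i * A.cart i s).sum

/-- orthogonality -/
noncomputable def perpB (r s : ℕ) : Bool := decide (prL D A r s = 0) && decide (prL D A s r = 0)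

/-- decoding of a word of fundamental reflections -/
noncomputable def unw : ℕ → ℕ → List ℕ
  | 0, _ => []
  | k + 1, n => bif decide (n = 0) then [] else (n % 16 - 1) :: unw k (n / 16)

/-- a word -/
noncomputable def dec (n : ℕ) : List ℕ := unw 256 n

/-- the members of two lists agree -/
def sameB (l m : List ℕ) : Bool := l.all (m.contains ·) && m.all (l.contains ·)

/-- the data of the classification: representatives, table, and the reducible configuration -/
structure Data where
  reps : List (List ℕ)
  tab : List (List (ℕ × ℕ × ℕ))
  bad : List ℕ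
  badTo : List ℕ
  gw : List ℕ

variable (X : Data)

/-- the roots which may extend a representative -/
noncomputable def cand (R : List ℕ) : List ℕ := (List.range D.nroots).filter fun r => R.all fun o => perpB D A o r

/-- one table entry: the code zero reduces to the configuration -/
noncomputable def entryB (R : List ℕ) (e : ℕ × ℕ × ℕ) : Bool :=
  (dec e.2.2).all (fun i => decide (i < D.rank)) &&
  (bif decide (e.2.1 = 0) then
    X.bad.all fun b => ((R ++ [e.1]).map (wf A (dec e.2.2))).contains b
  else decide (e.2.1 - 1 < X.reps.length) &&
    sameB ((R ++ [e.1]).map (wf A (dec e.2.2))) (X.reps.getD (e.2.1 - 1) []))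

/-- the check of the table at one representative -/
noncomputable def levelB (k : ℕ) : Bool :=
  decide ((X.tab.getD k []).map Prod.fst = cand D A (X.reps.getD k [])) &&
    (X.tab.getD k []).all fun e => entryB D A X (X.reps.getD k []) e

/-- the representatives are orthogonal lists of roots -/
noncomputable def repsB : Bool :=
  decide (X.reps.getD 0 [] = []) && decide (0 < X.reps.length) &&
  X.reps.all fun R => R.all (fun r => decide (r < D.nroots)) && decide (R.Pairwise fun a b => perpB D A a b = true)

/-- the checks on the reducible configuration -/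
noncomputable def badB : Bool :=
  X.bad.all (fun r => decide (r < D.nroots)) && decide X.bad.Nodup &&
  decide (X.badTo.length < X.bad.length) && X.badTo.all (fun r => decide (r < D.nroots)) &&
  decide (X.badTo.Pairwise fun a b => perpB D A a b = true) &&
  X.gw.all (fun r => decide (r < D.nroots)) &&
  ((List.range D.nroots).all fun t => !(X.bad.all fun b => perpB D A b t) ||
    (X.badTo ++ X.gw).all fun q => perpB D A q t) &&
  wordEqCheck D A 2 ((X.gw ++ X.bad ++ X.gw.reverse).map fun r => (r, 1)) (X.badTo.map fun r => (r, 1))

/-- the checks on fundamental roots -/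
noncomputable def baseB : Bool :=
  (A.reps.all fun j => (List.range D.nroots).all fun s =>
    !(perpB D A (D.simple j) s) || commPair D A (D.simple j) s) &&
  (List.range D.nroots).all fun r => decide (prL D A r r = 2) &&
    (List.range D.rank).all fun i => decide (A.coro r i = A.a r i)

variable {D A X} {F : Type*} [Field F]

lemma prL_eq (r s : ℕ) : prL D A r s = pr D A r s := (sum_map_range _ _).trans rfl

/-- mutually orthogonal roots -/
def Orth (D : ChevalleyDatum) (A : Aux) (L : List ℕ) : Prop :=
  (∀ r ∈ L, r < D.nroots) ∧ L.Pairwise fun a b => perpB D A a b = true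

lemma perpB_symm {a b : ℕ} (h : perpB D A a b = true) : perpB D A b a = true := by
  simp only [perpB, Bool.and_eq_true, decide_eq_true_eq] at h ⊢
  exact ⟨h.2, h.1⟩

lemma perpB_wf (g : Good D A) {w : List ℕ} (hw : Letters D w) {a b : ℕ} (ha : a < D.nroots) (hb : b < D.nroots) :
    perpB D A (wf A w a) (wf A w b) = perpB D A a b := by
  simp only [perpB, prL_eq, pr_wf g hw ha hb, pr_wf g hw hb ha]

lemma Orth.nodup (hB : baseB D A = true) {L : List ℕ} (h : Orth D A L) : L.Nodup := by
  refine h.2.imp_of_mem fun {a b} ha _ e he => ?_
  subst he
  simp only [baseB, Bool.and_eq_true, List.all_eq_true, List.mem_range, decide_eq_true_eq] at hB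
  simp only [perpB, Bool.and_eq_true, decide_eq_true_eq] at e
  have := (hB.2 a (h.1 a ha)).1
  omega

lemma Orth.perm {L M : List ℕ} (h : Orth D A L) (e : L.Perm M) : Orth D A M :=
  ⟨fun r hr => h.1 r (e.mem_iff.2 hr), e.pairwise h.2 fun e => perpB_symm e⟩

lemma Orth.map (g : Good D A) {w : List ℕ} (hw : Letters D w) {L : List ℕ} (h : Orth D A L) :
    Orth D A (L.map (wf A w)) := by
  refine ⟨fun r hr => ?_, ?_⟩
  · obtain ⟨a, ha, rfl⟩ := List.mem_map.1 hr
    exact wf_lt g hw (h.1 a ha)
  · exact List.pairwise_map.2 (h.2.imp_of_mem fun {a b} ha hb e => by rwa [perpB_wf g hw (h.1 a ha) (h.1 b hb)])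

variable [CharP F 2]

variable (h : Std D A) (hB : baseB D A = true)

local notation "x" => xG (F := F) h.good

include h in
lemma cast_eta {i r : ℕ} (hi : i < D.rank) (hr : r < D.nroots) : ((A.eta i r : ℤ) : F) = 1 := by
  have := eta_sq (F := F) h.good hi hr
  exact mul_self_eq_one_iff.1 this |>.elim id fun e => e.trans (CharTwo.neg_eq 1)

lemma nS_conj {i r : ℕ} (hi : i < D.rank) (hr : r < D.nroots) (t : F) :
    MulAut.conj (nS F h.good i) (x r t) = x (A.refl i r) t := by
  rw [MulAut.conj_apply, nS_conj_xG h.good hi hr, cast_eta h hi hr, one_mul]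

lemma nW_conj : ∀ {w : List ℕ}, Letters D w → ∀ {r : ℕ}, r < D.nroots → ∀ t : F,
    MulAut.conj (nW F h.good w) (x r t) = x (wf A w r) t
  | [], _, r, _, t => by simp [nW, wf]
  | i :: w, hw, r, hr, t => by
    rw [show nW F h.good (i :: w) = nS F h.good i * nW F h.good w by simp [nW], map_mul, MulAut.mul_apply,
      nW_conj hw.tail hr, nS_conj h hw.head (wf_lt h.good hw.tail hr)]
    rfl

include h hB in
/-- root elements of orthogonal roots commute -/
lemma commute_orth {a b : ℕ} (ha : a < D.nroots) (hb : b < D.nroots) (e : perpB D A a b = true) (t u : F) :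
    Commute (x a t) (x b u) := by
  suffices ∀ a < D.nroots, ∀ b < D.nroots, perpB D A a b = true → ∀ t u : F, Commute (x a t) (x b u) from
    this a ha b hb e t u
  clear! a b
  refine root_induction h.good (fun j hj hjr b hb e t u => ?_) (fun i hi r hr ih b hb e t u => ?_)
  · simp only [baseB, Bool.and_eq_true, List.all_eq_true, List.mem_range, Bool.or_eq_true] at hB
    refine commute_xG h ((hB.1 j hjr b hb).resolve_left ?_) t u
    simp [e]
  · have hb' : A.refl i b < D.nroots := h.good.refl_lt i hi b hb
    have e' : perpB D A r (A.refl i b) = true := by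
      rw [← e]
      simp only [perpB, prL_eq]
      rw [← pr_refl h.good hi hr hb', ← pr_refl h.good hi hb' hr, h.good.refl_refl i hi b hb]
    have := (ih _ hb' e' t u).map (MulAut.conj (nS F h.good i)).toMonoidHom
    simp only [MulEquiv.coe_toMonoidHom, nS_conj h hi hr, nS_conj h hi hb', h.good.refl_refl i hi b hb] at this
    exact this

/-- product of root elements with coefficient one -/
noncomputable def P (g : Good D A) (L : List ℕ) : GL D.Idx F := (L.map fun r => xG g r 1).prod

lemma P_append (L M : List ℕ) : P (F := F) h.good (L ++ M) = P h.good L * P h.good M := by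
  simp [P]

include hB in
lemma P_perm {L M : List ℕ} (hL : Orth D A L) (e : L.Perm M) : P (F := F) h.good L = P h.good M := by
  refine List.Perm.prod_eq' (e.map _) (List.pairwise_map.2 ?_)
  exact hL.2.imp_of_mem fun {a b} ha hb e => commute_orth h hB (hL.1 a ha) (hL.1 b hb) e 1 1

lemma P_map {w : List ℕ} (hw : Letters D w) {L : List ℕ} (hL : ∀ r ∈ L, r < D.nroots) :
    nW F h.good w * P h.good L * (nW F h.good w)⁻¹ = P h.good (L.map (wf A w)) := by
  rw [← MulAut.conj_apply, P, map_list_prod, List.map_map, P, List.map_map]
  exact congrArg List.prod (List.map_congr_left fun r hr => nW_conj h hw (hL r hr) 1)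

lemma P_mem (L : List ℕ) : P (F := F) h.good L ∈ D.group F :=
  list_prod_mem fun y hy => by
    obtain ⟨r, -, rfl⟩ := List.mem_map.1 hy
    exact xG_mem_group h.good r 1

/-- conjugate in the group to the product of a representative -/
def Rch (X : Data) (y : GL D.Idx F) : Prop :=
  ∃ k < X.reps.length, ∃ g ∈ D.group F, g * y * g⁻¹ = P h.good (X.reps.getD k [])

lemma Rch.step {X : Data} {y z g : GL D.Idx F} (hg : g ∈ D.group F) (e : g * y * g⁻¹ = z) (hz : Rch h X z) :
    Rch h X y := by
  obtain ⟨k, hk, g', hg', e'⟩ := hz
  refine ⟨k, hk, g' * g, mul_mem hg' hg, ?_⟩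
  rw [← e', ← e]
  group

include hB in
/-- every product of orthogonal root elements is conjugate to a representative -/
theorem reach (hR : repsB D A X = true) (hb : badB D A X = true) (hT : ∀ k < X.reps.length, levelB D A X k = true)
    {L : List ℕ} (hL : Orth D A L) : Rch h X (P (F := F) h.good L) := by
  simp only [repsB, Bool.and_eq_true, decide_eq_true_eq, List.all_eq_true] at hR
  obtain ⟨⟨hR0, hRp⟩, hRo⟩ := hR
  simp only [badB, Bool.and_eq_true, decide_eq_true_eq, List.all_eq_true, List.mem_range, Bool.or_eq_true,
    List.mem_append, Bool.not_eq_true', Bool.eq_false_iff, ne_eq] at hb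
  obtain ⟨⟨⟨⟨⟨⟨⟨hbr, hbn⟩, hlen⟩, htr⟩, hto⟩, hgr⟩, hperp⟩, heq⟩ := hb
  suffices ∀ n, ∀ L : List ℕ, L.length ≤ n → Orth D A L → Rch h X (P (F := F) h.good L) from this _ L le_rfl hL
  intro n
  induction n using Nat.strong_induction_on with
  | _ n ih =>
    suffices H : ∀ tl : List ℕ, ∀ k < X.reps.length, (X.reps.getD k [] ++ tl).length ≤ n →
        Orth D A (X.reps.getD k [] ++ tl) → Rch h X (P (F := F) h.good (X.reps.getD k [] ++ tl)) by
      intro L hn hL
      have := H L 0 hRp (by rwa [hR0]) (by rwa [hR0])
      rwa [hR0] at this
    intro tl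
    induction hm : tl.length generalizing tl with
    | zero => exact fun k hk _ _ => ⟨k, hk, 1, one_mem _, by simp [List.length_eq_zero_iff.1 hm]⟩
    | succ m iht =>
      intro k hk hn hO
      obtain ⟨r, tl, rfl⟩ := List.exists_cons_of_length_eq_add_one hm
      set R := X.reps.getD k []
      have hsplit : R ++ r :: tl = (R ++ [r]) ++ tl := by simp
      rw [hsplit] at hn hO ⊢
      have hrc : r ∈ cand D A R := by
        refine List.mem_filter.2 ⟨List.mem_range.2 (hO.1 r (by simp)), List.all_eq_true.2 fun o ho => ?_⟩
        exact (List.pairwise_append.1 (List.pairwise_append.1 hO.2).1).2.2 o ho r (by simp)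
      have hlev := hT k hk
      simp only [levelB, Bool.and_eq_true, decide_eq_true_eq, List.all_eq_true] at hlev
      rw [← hlev.1, List.mem_map] at hrc
      obtain ⟨⟨r', c, code⟩, he, rfl : r' = r⟩ := hrc
      have hent := hlev.2 _ he
      simp only [entryB, Bool.and_eq_true, List.all_eq_true, decide_eq_true_eq] at hent
      obtain ⟨hw, hent⟩ := hent
      set w := dec code
      have hO' := hO.map h.good (w := w) hw
      refine Rch.step h (monomialSubgroup_le_group h.good (nW_mem h.good hw)) (P_map h hw hO.1) ?_
      rw [List.map_append] at hO' ⊢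
      rw [List.length_append, ← List.length_map (f := wf A w) (as := R ++ [r']),
        ← List.length_map (f := wf A w) (as := tl)] at hn
      set M := (R ++ [r']).map (wf A w)
      set N := tl.map (wf A w)
      rcases eq_or_ne c 0 with rfl | hc
      · -- the configuration appears
        simp only [decide_true, cond_true, List.all_eq_true, List.contains_iff_mem] at hent
        obtain ⟨rest, hrest⟩ : ∃ rest, (M ++ N).Perm (X.bad ++ rest) := by
          refine ⟨(M ++ N).filter fun a => decide (a ∉ X.bad), ?_⟩
          have hnd := hO'.nodup hB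
          refine (List.perm_ext_iff_of_nodup hnd (List.nodup_append.2 ⟨hbn, hnd.filter _, ?_⟩)).2 fun a => ?_
          · intro a ha b hb e
            simp only [List.mem_filter, decide_eq_true_eq] at hb
            exact hb.2 (e ▸ ha)
          · simp only [List.mem_append, List.mem_filter, decide_eq_true_eq]
            refine ⟨fun h => (em (a ∈ X.bad)).imp id fun hb => ⟨h, hb⟩, ?_⟩
            rintro (hb | ⟨h, -⟩)
            · exact .inl (hent a hb)
            · exact h
        rw [P_perm h hB hO' hrest]
        have hO2 := hO'.perm hrest
        have hcross : ∀ b ∈ X.bad, ∀ t ∈ rest, perpB D A b t = true := (List.pairwise_append.1 hO2.2).2.2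
        have hperp' : ∀ q ∈ X.badTo ++ X.gw, ∀ t ∈ rest, perpB D A q t = true := by
          intro q hq t ht
          refine ((hperp t (hO2.1 t (List.mem_append_right _ ht))).resolve_left ?_) q (List.mem_append.1 hq)
          exact fun hne => hne fun b hb => hcross b hb t ht
        set gg : GL D.Idx F := P h.good X.gw
        have hgc : Commute gg (P h.good rest) := by
          refine Commute.list_prod_right _ _ fun y hy => Commute.list_prod_left _ _ fun z hz => ?_
          obtain ⟨t, ht, rfl⟩ := List.mem_map.1 hy
          obtain ⟨q, hq, rfl⟩ := List.mem_map.1 hz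
          exact commute_orth h hB (hgr q hq) (hO2.1 t (List.mem_append_right _ ht))
            (hperp' q (List.mem_append_right _ hq) t ht) 1 1
        have hinv : gg⁻¹ = P h.good X.gw.reverse := by
          simp only [gg, P, List.prod_inv_reverse, List.map_reverse, List.map_map]
          congr 2
          refine List.map_congr_left fun q _ => ?_
          simp [xG_inv, CharTwo.neg_eq]
        have hcore : gg * P h.good X.bad * gg⁻¹ = P h.good X.badTo := by
          have e := word_eq_of_check (F := F) h.good (p := 2) heq
          simp only [List.map_map, Function.comp_def, Int.cast_one] at e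
          rw [hinv, ← P_append h, ← P_append h]
          exact e
        refine Rch.step h (P_mem h X.gw) (z := P h.good (X.badTo ++ rest)) ?_ ?_
        · rw [P_append h, P_append h, ← conj_mul, hcore, hgc.eq, mul_inv_cancel_right]
        · refine ih (X.badTo ++ rest).length ?_ _ le_rfl ⟨?_, ?_⟩
          · have := hrest.length_eq
            simp only [List.length_append] at this hn ⊢
            omega
          · intro q hq
            rcases List.mem_append.1 hq with hq | hq
            · exact htr q hq
            · exact hO2.1 q (List.mem_append_right _ hq)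
          · exact List.pairwise_append.2 ⟨hto, (List.pairwise_append.1 hO2.2).2.1,
              fun q hq t ht => hperp' q (List.mem_append_left _ hq) t ht⟩
      · -- a representative with one more root
        simp only [decide_eq_false hc, cond_false, Bool.and_eq_true, decide_eq_true_eq, sameB, List.all_eq_true,
          List.contains_iff_mem] at hent
        set R' := X.reps.getD (c - 1) []
        have hR' : Orth D A R' := by
          have := hRo R' (by simp only [R', List.getD_eq_getElem?_getD, List.getElem?_eq_getElem hent.1,
            Option.getD_some]; exact List.getElem_mem _)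
          simpa [Orth] using this
        have hMO : Orth D A M := ⟨fun q hq => hO'.1 q (List.mem_append_left _ hq), (List.pairwise_append.1 hO'.2).1⟩
        have hperm : (M ++ N).Perm (R' ++ N) :=
          ((List.perm_ext_iff_of_nodup (hMO.nodup hB) (hR'.nodup hB)).2
            fun a => ⟨hent.2.1 a, hent.2.2 a⟩).append_right N
        rw [P_perm h hB hO' hperm]
        have hlen' := hperm.length_eq
        refine iht N ?_ (c - 1) hent.1 ?_ (hO'.perm hperm)
        · simp only [N, List.length_map]
          simpa using hm
        · simp only [R', List.length_append] at hlen' hn ⊢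
          omega

end CfsgLib.Chev.SLInv
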