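/-
Every involution of a simply laced group in characteristic two is conjugate to a tabulated representative.
-/
import Cfsg.Agent.Lib.Chev.SLInvol.Classify
import Cfsg.Agent.Lib.Chev.SteinbergChar

set_option autoImplicit false
set_option maxRecDepth 100000
set_option maxHeartbeats 1000000

namespace CfsgLib.Chev.SLInv

open Cfsg.Lie Matrix CfsgLib.Chev

/-- all checks of a type -/
structure Checked (D : ChevalleyDatum) (A : Aux) (X : Data) : Prop where
  std : Std D A
  lace : laced D A = true
  base : baseB D A = true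
  reps : repsB D A X = true
  bad : badB D A X = true
  tab : ∀ k < X.reps.length, levelB D A X k = true

variable {D : ChevalleyDatum} {A : Aux} {X : Data} {F : Type*} [Field F] [CharP F 2]

lemma ip_eq_pr (hC : Checked D A X) {a b : ℕ} (ha : a < D.nroots) : ip D A b a = prL D A a b := by
  have h := hC.base
  simp only [baseB, Bool.and_eq_true, List.all_eq_true, List.mem_range, decide_eq_true_eq] at h
  simp only [ip, prL]
  refine congrArg List.sum (List.map_congr_left fun i hi => ?_)
  rw [(h.2 a ha).2 i (List.mem_range.1 hi)]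

variable [Fintype F]

/-- rescaling the coefficients of orthogonal root elements to one -/
lemma scale_one (hC : Checked D A X) : ∀ {L : List ℕ}, Orth D A L → ∀ T : ℕ → F, (∀ r ∈ L, T r ≠ 0) →
    ∃ g ∈ D.group F, g * pw hC.std.good L T * g⁻¹ = P hC.std.good L ∧
      ∀ t < D.nroots, (∀ r ∈ L, perpB D A r t = true) → Commute g (xG hC.std.good t (1 : F)) := by
  intro L
  induction L with
  | nil => exact fun _ T _ => ⟨1, one_mem _, by simp [pw, P], fun t _ _ => Commute.one_left _⟩
  | cons o L ih =>
    intro hO T hT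
    have ho : o < D.nroots := hO.1 o List.mem_cons_self
    obtain ⟨hoL, hOL⟩ := List.pairwise_cons.1 hO.2
    have hne : T o ≠ 0 := hT o List.mem_cons_self
    obtain ⟨s, hs⟩ : ∃ s : F, s * s = (T o)⁻¹ := by
      obtain ⟨d, hd⟩ := isSquare_of_charTwo' ((T o)⁻¹ : F)
      exact ⟨d, hd.symm⟩
    have hs0 : s ≠ 0 := fun e => inv_ne_zero hne (by rw [← hs, e, mul_zero])
    set k := hG (F := F) hC.std.good o s
    have hk : ∀ t < D.nroots, ∀ u : F, k * xG hC.std.good t u * k⁻¹ =
        xG hC.std.good t (s ^ pr D A o t * u) := by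
      intro t ht u
      rw [mul_inv_eq_iff_eq_mul]
      apply Units.ext
      simp only [k, Units.val_mul, hG_val, xG_val]
      exact hMat_mul_x hC.std.good ho ht hs0 u
    have hk0 : ∀ t < D.nroots, perpB D A o t = true → ∀ u : F, k * xG hC.std.good t u * k⁻¹ = xG hC.std.good t u := by
      intro t ht e u
      simp only [perpB, Bool.and_eq_true, decide_eq_true_eq, prL_eq] at e
      rw [hk t ht, e.1, zpow_zero, one_mul]
    obtain ⟨g, hg, hge, hgc⟩ := ih ⟨fun r hr => hO.1 r (List.mem_cons_of_mem _ hr), hOL⟩ T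
      fun r hr => hT r (List.mem_cons_of_mem _ hr)
    refine ⟨g * k, mul_mem hg (hG_mem_group hC.std.good o s), ?_, fun t ht e => ?_⟩
    · have h2 : k * xG hC.std.good o (T o) * k⁻¹ = xG hC.std.good o 1 := by
        have hb := hC.base
        simp only [baseB, Bool.and_eq_true, List.all_eq_true, List.mem_range, decide_eq_true_eq, prL_eq] at hb
        rw [hk o ho, (hb.2 o ho).1, zpow_two, hs, inv_mul_cancel₀ hne]
      have h3 : k * pw hC.std.good L T * k⁻¹ = pw hC.std.good L T := by
        rw [← MulAut.conj_apply, pw, map_list_prod, List.map_map]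
        refine congrArg List.prod (List.map_congr_left fun r hr => ?_)
        exact hk0 r (hO.1 r (List.mem_cons_of_mem _ hr)) (hoL r hr) _
      have h4 : g * xG hC.std.good o 1 = xG hC.std.good o 1 * g :=
        hgc o ho fun r hr => perpB_symm (hoL r hr)
      calc g * k * pw hC.std.good (o :: L) T * (g * k)⁻¹
          = g * ((k * xG hC.std.good o (T o) * k⁻¹) * (k * pw hC.std.good L T * k⁻¹)) * g⁻¹ := by
            simp only [pw, List.map_cons, List.prod_cons]; group
        _ = g * (xG hC.std.good o 1 * pw hC.std.good L T) * g⁻¹ := by rw [h2, h3]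
        _ = xG hC.std.good o 1 * (g * pw hC.std.good L T * g⁻¹) := by
            rw [← mul_assoc g, h4]; group
        _ = P hC.std.good (o :: L) := by rw [hge]; simp [P]
    · refine Commute.mul_left (hgc t ht fun r hr => e r (List.mem_cons_of_mem _ hr)) ?_
      exact mul_inv_eq_iff_eq_mul.1 (hk0 t ht (e o List.mem_cons_self) 1)

/-- every involution is conjugate to a representative -/
theorem exists_class (hC : Checked D A X) {y : GL D.Idx F} (hy : y ∈ D.group F) (h2 : orderOf y = 2) :
    ∃ k < X.reps.length, k ≠ 0 ∧ ∃ g ∈ D.group F, g * y * g⁻¹ = P hC.std.good (X.reps.getD k []) := by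
  classical
  have h := hC.std
  have : Fact (Nat.Prime 2) := ⟨Nat.prime_two⟩
  haveI : Finite ↥(D.group F) := Finite.of_injective _ Subtype.val_injective
  set U := (D.posUnipotent F).subgroupOf (D.group F)
  obtain ⟨m, hm, hcard⟩ := card_group_eq (F := F) h (p := 2)
  have hUcard : Nat.card U = Fintype.card F ^ (D.nroots / 2) := by
    rw [Nat.card_congr (Subgroup.subgroupOfEquivOfLe (posUnipotent_le_group h.good)).toEquiv,
      card_posUnipotent h]
  obtain ⟨n, -, hn⟩ := FiniteField.card F 2
  have hUp : IsPGroup 2 U :=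
    IsPGroup.of_card (n := (n : ℕ) * (D.nroots / 2)) (by rw [hUcard, hn, ← pow_mul])
  have hidx : ¬ 2 ∣ U.index := by
    have h1 := U.card_mul_index
    rw [hUcard, hcard] at h1
    rwa [Nat.eq_of_mul_eq_mul_left (pow_pos Fintype.card_pos _) h1]
  set S₀ : Sylow 2 ↥(D.group F) := hUp.toSylow hidx
  set z : ↥(D.group F) := ⟨y, hy⟩
  have hz : IsPGroup 2 (Subgroup.zpowers z) := IsPGroup.of_card (n := 1) (by
    rw [Nat.card_zpowers, pow_one]
    exact (Subgroup.orderOf_mk y hy).trans h2)
  obtain ⟨S, hS⟩ := hz.exists_le_sylow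
  obtain ⟨a, ha⟩ := MulAction.exists_smul_eq ↥(D.group F) S S₀
  have h3 : a * z * a⁻¹ ∈ U := by
    have h4 : (S₀ : Subgroup ↥(D.group F)) = U := rfl
    rw [← h4, ← ha, Sylow.coe_subgroup_smul]
    exact ⟨z, hS (Subgroup.mem_zpowers z), rfl⟩
  set w := (a : GL D.Idx F) * y * (a : GL D.Idx F)⁻¹ with hw
  have hyy : y * y = 1 := by rw [← sq, ← h2, pow_orderOf_eq_one]
  have hww : w * w = 1 := by rw [hw, conj_mul, hyy, mul_one, mul_inv_cancel]
  have hf := facts h.good hC.lace
  have hwU : w ∈ D.posUnipotent F := Subgroup.mem_subgroupOf.1 h3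
  obtain ⟨b, hb, L, hLpos, hLp, T, hT, he⟩ := orth_reduce h hf hwU hww
  have hO : Orth D A L := by
    refine ⟨fun r hr => (hLpos r hr).1, hLp.imp_of_mem fun {p q} hp hq e => ?_⟩
    simp only [perpB, Bool.and_eq_true, decide_eq_true_eq]
    rw [← ip_eq_pr hC (hLpos p hp).1, ← ip_eq_pr hC (hLpos q hq).1]
    exact ⟨by rw [hf.symm q p (hLpos q hq) (hLpos p hp)]; exact e, e⟩
  obtain ⟨c, hc, hce, -⟩ := scale_one hC hO T hT
  obtain ⟨k, hk, d, hd, hde⟩ := reach h hC.base hC.reps hC.bad hC.tab hO (F := F)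
  have hmem : d * (c * (b * (a : GL D.Idx F))) ∈ D.group F :=
    mul_mem hd (mul_mem hc (mul_mem (posUnipotent_le_group h.good hb) a.2))
  have hfin : d * (c * (b * (a : GL D.Idx F))) * y * (d * (c * (b * (a : GL D.Idx F))))⁻¹ =
      P h.good (X.reps.getD k []) := by
    rw [← hde, ← hce, ← he, hw]
    group
  refine ⟨k, hk, fun hk0 => ?_, _, hmem, hfin⟩
  have h0 := hC.reps
  simp only [repsB, Bool.and_eq_true, decide_eq_true_eq] at h0
  rw [hk0, h0.1.1, show P h.good ([] : List ℕ) = (1 : GL D.Idx F) from rfl, conj_eq_one_iff] at hfin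
  rw [hfin, orderOf_one] at h2
  omega

end CfsgLib.Chev.SLInv
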