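/-
The table for the involution classes of type E6 in characteristic two.
-/
import Cfsg.Agent.Lib.Chev.SLInvol.Finish
import Cfsg.Agent.Lib.Chev.Types

set_option autoImplicit false
set_option maxRecDepth 100000
set_option maxHeartbeats 4000000

namespace CfsgLib.Chev.SLInv.E6

open Cfsg.Lie CfsgLib.Chev

/-- extensions of representative 0 -/
def tab0 : List (ℕ × ℕ × ℕ) :=
  [(0, 2, 0x243154234565423143542), (1, 2, 0x43154234565423143542), (2, 2, 0x3154234565423143542),
   (3, 2, 0x314234565423143542), (4, 2, 0x31423454231436542), (5, 2, 0x154234565423143542),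
   (6, 2, 0x14234565423143542), (7, 2, 0x1423454231436542), (8, 2, 0x1234565423143542),
   (9, 2, 0x123454231436542), (10, 2, 0x12342315436542), (11, 2, 0x134565423143542),
   (12, 2, 0x13454231436542), (13, 2, 0x1342315436542), (14, 2, 0x131425436542),
   (15, 2, 0x13425436542), (16, 2, 0x54234565423143542), (17, 2, 0x4234565423143542),
   (18, 2, 0x423454231436542), (19, 2, 0x234565423143542), (20, 2, 0x23454231436542),
   (21, 2, 0x2342315436542), (22, 2, 0x24565423143542), (23, 2, 0x2454231436542),
   (24, 2, 0x242315436542), (25, 2, 0x24315436542), (26, 2, 0x34565423143542),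
   (27, 2, 0x3454231436542), (28, 2, 0x342315436542), (29, 2, 0x31425436542),
   (30, 2, 0x4565423143542), (31, 2, 0x454231436542), (32, 2, 0x42315436542),
   (33, 2, 0x565423143542), (34, 2, 0x54231436542), (35, 2, 0x65423143542),
   (36, 2, 0x5423143542), (37, 2, 0x4231436542), (38, 2, 0x423143542),
   (39, 2, 0x2315436542), (40, 2, 0x231436542), (41, 2, 0x23143542),
   (42, 2, 0x1425436542), (43, 2, 0x125436542), (44, 2, 0x12436542),
   (45, 2, 0x1243542), (46, 2, 0x4315436542), (47, 2, 0x315436542),
   (48, 2, 0x31436542), (49, 2, 0x3143542), (50, 2, 0x15436542),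
   (51, 2, 0x1436542), (52, 2, 0x143542), (53, 2, 0x136542),
   (54, 2, 0x13542), (55, 2, 0x1342), (56, 2, 0x3425436542),
   (57, 2, 0x425436542), (58, 2, 0x25436542), (59, 2, 0x2436542),
   (60, 2, 0x243542), (61, 2, 0x5436542), (62, 2, 0x436542),
   (63, 2, 0x43542), (64, 2, 0x36542), (65, 2, 0x3542),
   (66, 2, 0x342), (67, 2, 0x6542), (68, 2, 0x542),
   (69, 2, 0x42), (70, 2, 0x2), (71, 2, 0x0)]

/-- extensions of representative 1 -/
def tab1 : List (ℕ × ℕ × ℕ) :=
  [(11, 3, 0x134565431245), (12, 3, 0x13454316245), (13, 3, 0x1343156245),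
   (14, 3, 0x131456245), (15, 3, 0x13456245), (26, 3, 0x34565431245),
   (27, 3, 0x3454316245), (28, 3, 0x343156245), (29, 3, 0x31456245),
   (30, 3, 0x4565431245), (31, 3, 0x454316245), (32, 3, 0x43156245),
   (33, 3, 0x565431245), (34, 3, 0x54316245), (35, 3, 0x65431245),
   (36, 3, 0x5431245), (37, 3, 0x4316245), (38, 3, 0x431245),
   (39, 3, 0x3156245), (40, 3, 0x316245), (41, 3, 0x31245),
   (42, 3, 0x1456245), (43, 3, 0x156245), (44, 3, 0x16245),
   (45, 3, 0x1245), (56, 3, 0x3456245), (57, 3, 0x456245),
   (58, 3, 0x56245), (59, 3, 0x6245), (60, 3, 0x245)]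

/-- extensions of representative 2 -/
def tab2 : List (ℕ × ℕ × ℕ) :=
  [(18, 4, 0x5423454312431), (20, 4, 0x542343512431), (24, 4, 0x542454312431),
   (25, 4, 0x54243512431), (27, 4, 0x54234512431), (32, 4, 0x54254312431),
   (39, 4, 0x5424312431), (44, 4, 0x5424512431), (46, 4, 0x5423512431),
   (47, 4, 0x542312431), (51, 4, 0x542512431), (53, 4, 0x54212431)]

/-- extensions of representative 3 -/
def tab3 : List (ℕ × ℕ × ℕ) :=
  [(25, 0, 0x134214), (46, 0, 0x13421)]

/-- the data of the type -/
def data : Data where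
  reps := [[], [71], [68, 66], [55, 65, 67]]
  tab := [tab0, tab1, tab2, tab3]
  bad := [71, 60, 44, 39]
  badTo := [44, 60, 71]
  gw := [47, 25, 20, 8]

theorem base_ok : baseB chevE6 auxE6 = true := by decide +kernel

theorem reps_ok : repsB chevE6 auxE6 data = true := by decide +kernel

theorem bad_ok : badB chevE6 auxE6 data = true := by decide +kernel

theorem lace_ok : laced chevE6 auxE6 = true := by decide +kernel

theorem lev0 : levelB chevE6 auxE6 data 0 = true := by decide +kernel

theorem lev1 : levelB chevE6 auxE6 data 1 = true := by decide +kernel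

theorem lev2 : levelB chevE6 auxE6 data 2 = true := by decide +kernel

theorem lev3 : levelB chevE6 auxE6 data 3 = true := by decide +kernel

/-- all checks -/
theorem checked : Checked chevE6 auxE6 data where
  std := stdE6
  lace := lace_ok
  base := base_ok
  reps := reps_ok
  bad := bad_ok
  tab := fun k hk => match k, hk with
    | 0, _ => lev0
    | 1, _ => lev1
    | 2, _ => lev2
    | 3, _ => lev3
    | k + 4, hk => absurd hk (by simp [data])

end CfsgLib.Chev.SLInv.E6
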