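/-
Certificates for the rank of a product of root elements minus one in characteristic two.
-/
import Cfsg.Agent.Lib.Chev.SLInvol.Classify

set_option autoImplicit false
set_option maxRecDepth 100000
set_option maxHeartbeats 1000000

namespace CfsgLib.Chev.SLInv

open Cfsg.Lie Matrix CfsgLib.Chev

/-- exclusive or of the selected numbers -/
noncomputable def xsel (f : ℕ → ℕ) : ℕ → ℕ → ℕ
  | 0, _ => 0
  | k + 1, m => (bif Nat.testBit m k then f k else 0) ^^^ xsel f k m

/-- the parities of a sparse vector -/
noncomputable def parities : List (ℕ × ℤ) → ℕ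
  | [] => 0
  | p :: v => (bif decide (p.2 % 2 = 0) then 0 else 2 ^ p.1) ^^^ parities v

/-- columns, rows of the selected columns, selections and a left inverse -/
structure Cert where
  r : ℕ
  cols : List ℕ
  piv : List ℕ
  rows : List ℕ
  sel : List ℕ
  linv : List ℕ

variable (D : ChevalleyDatum) (A : Aux)

/-- the check of a certificate for the product of root elements -/
noncomputable def certB (L : List ℕ) (c : Cert) : Bool :=
  L.all (fun r => decide (r < D.nroots)) &&
  ((List.range (D.rank + D.nroots)).all fun j =>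
    decide (c.cols.getD j 0 = parities ((j, 1) :: A.appWord D.rank D.nroots (L.map fun r => (r, 1)) [(j, 1)]))) &&
  ((List.range c.r).all fun k => decide (c.piv.getD k 0 < D.rank + D.nroots)) &&
  ((List.range (D.rank + D.nroots)).all fun i => (List.range c.r).all fun k =>
    decide (Nat.testBit (c.rows.getD i 0) k = Nat.testBit (c.cols.getD (c.piv.getD k 0) 0) i)) &&
  ((List.range (D.rank + D.nroots)).all fun j =>
    decide (c.cols.getD j 0 = xsel (fun k => c.cols.getD (c.piv.getD k 0) 0) c.r (c.sel.getD j 0))) &&
  ((List.range c.r).all fun k =>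
    decide (xsel (fun i => c.rows.getD i 0) (D.rank + D.nroots) (c.linv.getD k 0) = 2 ^ k))

variable {D A} {F : Type*} [Field F] [CharP F 2]

variable (F) in
/-- a bit as an element of the field -/
def bitF (n i : ℕ) : F := if Nat.testBit n i then 1 else 0

lemma bitF_xor (a b i : ℕ) : bitF F (a ^^^ b) i = bitF F a i + bitF F b i := by
  simp only [bitF, Nat.testBit_xor]
  cases Nat.testBit a i <;> cases Nat.testBit b i <;> simp [CharTwo.add_self_eq_zero]

lemma bitF_zero (i : ℕ) : bitF F 0 i = 0 := by simp [bitF]

lemma bitF_two_pow (k i : ℕ) : bitF F (2 ^ k) i = if k = i then 1 else 0 := by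
  simp [bitF, Nat.testBit_two_pow]

lemma bitF_xsel (f : ℕ → ℕ) (m i : ℕ) : ∀ r, bitF F (xsel f r m) i = ∑ k ∈ Finset.range r, bitF F m k * bitF F (f k) i
  | 0 => by simp [xsel, bitF_zero]
  | r + 1 => by
    rw [xsel, bitF_xor, bitF_xsel f m i r, Finset.sum_range_succ, add_comm]
    congr 1
    simp only [bitF]
    cases Nat.testBit m r <;> simp

lemma parities_spec (v : List (ℕ × ℤ)) (z : D.Idx) : sval (ev D F) v z = bitF F (parities v) (idx D z) := by
  induction v with
  | nil => simp [sval, parities, bitF_zero]
  | cons p v ih =>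
    rw [sval_cons, Pi.add_apply, ih, parities, bitF_xor]
    congr 1
    simp only [Pi.smul_apply, ev, zsmul_eq_mul]
    by_cases hp : p.2 % 2 = 0
    · rw [decide_eq_true hp, cond_true, bitF_zero]
      have : (p.2 : F) = 0 := (CharP.intCast_eq_zero_iff F 2 _).2 (Int.dvd_of_emod_eq_zero hp)
      rw [this, zero_mul]
    · rw [decide_eq_false hp, cond_false, bitF_two_pow]
      have : (p.2 : F) = 1 := by
        rw [← Int.cast_one]
        exact (CharP.intCast_eq_intCast F 2).2 (by unfold Int.ModEq; omega)
      rw [this, one_mul]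
      simp [eq_comm]

/-- the certified rank -/
theorem rank_of_cert (h : Std D A) {L : List ℕ} {c : Cert} (hc : certB D A L c = true) :
    (((P (F := F) h.good L : GL D.Idx F) : Matrix D.Idx D.Idx F) - 1).rank = c.r := by
  classical
  simp only [certB, Bool.and_eq_true, List.all_eq_true, List.mem_range, decide_eq_true_eq] at hc
  obtain ⟨⟨⟨⟨⟨hL, hcol⟩, hpiv⟩, hrow⟩, hsel⟩, hlinv⟩ := hc
  set M := ((P (F := F) h.good L : GL D.Idx F) : Matrix D.Idx D.Idx F) - 1 with hM
  have hentry : ∀ z y : D.Idx, M z y = bitF F (c.cols.getD (idx D y) 0) (idx D z) := by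
    intro z y
    have hw : ∀ p ∈ L.map fun r => (r, (1 : ℤ)), p.1 < D.nroots := by simpa using hL
    rw [hcol _ (idx_lt y), ← parities_spec, sval_cons, Pi.add_apply,
      congrFun (sval_appWord (F := F) h.good hw [(idx D y, 1)]) z,
      show sval (ev D F) [(idx D y, (1 : ℤ))] = ev D F (idx D y) by simp [sval], mulVec_ev]
    have e : ((P (F := F) h.good L : GL D.Idx F) : Matrix D.Idx D.Idx F) =
        D.wordMat F ((L.map fun r => (r, (1 : ℤ))).map fun p => (p.1, (p.2 : F))) := by
      rw [← prod_xG_val h.good, P, List.map_map, List.map_map]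
      simp [Function.comp_def]
    rw [hM, Matrix.sub_apply, Matrix.one_apply, e, sub_eq_add_neg, CharTwo.neg_eq, add_comm]
    congr 1
    simp only [one_smul, ev]
    by_cases hzy : z = y
    · simp [hzy]
    · rw [if_neg hzy, if_neg fun e' => hzy (idx_inj e')]
  choose col hcolv using fun k : Fin c.r => exists_idx (D := D) (hpiv k.val k.isLt)
  let S : Matrix (Fin c.r) D.Idx F := fun k y => bitF F (c.sel.getD (idx D y) 0) k.val
  let N : Matrix (Fin c.r) D.Idx F := fun k z => bitF F (c.linv.getD k.val 0) (idx D z)
  have hfac : M = M.submatrix id col * S := by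
    ext z y
    rw [hentry, hsel _ (idx_lt y), bitF_xsel, Matrix.mul_apply, Finset.sum_range]
    refine Finset.sum_congr rfl fun k _ => ?_
    rw [Matrix.submatrix_apply, id, hentry, hcolv, mul_comm]
  have hone : N * M.submatrix id col = 1 := by
    ext k l
    rw [Matrix.mul_apply, Matrix.one_apply]
    have e := bitF_xsel (F := F) (fun i => c.rows.getD i 0) (c.linv.getD k.val 0) l.val (D.rank + D.nroots)
    rw [hlinv k.val k.isLt, bitF_two_pow] at e
    simp only [← Fin.ext_iff] at e
    rw [e]
    have hb : Finset.range (D.rank + D.nroots) = Finset.univ.image (idx D) := by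
      ext i
      simp only [Finset.mem_range, Finset.mem_image, Finset.mem_univ, true_and]
      exact ⟨fun hi => exists_idx hi, fun ⟨z, hz⟩ => hz ▸ idx_lt z⟩
    rw [hb, Finset.sum_image fun a _ b _ e => idx_inj e]
    refine Finset.sum_congr rfl fun z _ => ?_
    rw [Matrix.submatrix_apply, id, hentry, hcolv]
    simp only [N, bitF, hrow _ (idx_lt z) _ l.isLt]
  refine le_antisymm ?_ ?_
  · rw [hfac]
    exact (Matrix.rank_mul_le_left _ _).trans ((Matrix.rank_le_card_width _).trans (le_of_eq (Fintype.card_fin _)))
  · have h1 : (1 : Matrix (Fin c.r) (Fin c.r) F).rank = c.r := by rw [Matrix.rank_one, Fintype.card_fin]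
    calc c.r = (N * M.submatrix id col).rank := by rw [hone, h1]
      _ ≤ (M.submatrix id col).rank := Matrix.rank_mul_le_right _ _
      _ ≤ M.rank := by
        rw [show M.submatrix id col = M * (1 : Matrix D.Idx D.Idx F).submatrix id col by
          ext a b; simp [Matrix.mul_apply, Matrix.one_apply]]
        exact Matrix.rank_mul_le_left _ _

/-- conjugate matrices have the same rank after subtracting one -/
lemma rank_conj {n : Type*} [Fintype n] [DecidableEq n] (g a : GL n F) :
    (((g * a * g⁻¹ : GL n F) : Matrix n n F) - 1).rank = ((a : Matrix n n F) - 1).rank := by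
  have key : ∀ g a : GL n F, (((g * a * g⁻¹ : GL n F) : Matrix n n F) - 1).rank ≤ ((a : Matrix n n F) - 1).rank := by
    intro g a
    have e : ((g * a * g⁻¹ : GL n F) : Matrix n n F) - 1 =
        (g : Matrix n n F) * ((a : Matrix n n F) - 1) * ((g⁻¹ : GL n F) : Matrix n n F) := by
      rw [mul_sub, sub_mul, mul_one, Units.mul_inv, Units.val_mul, Units.val_mul]
    rw [e]
    exact (Matrix.rank_mul_le_left _ _).trans (Matrix.rank_mul_le_right _ _)
  refine le_antisymm (key g a) ?_
  have := key g⁻¹ (g * a * g⁻¹)
  rwa [show g⁻¹ * (g * a * g⁻¹) * g⁻¹⁻¹ = a by group] at this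

end CfsgLib.Chev.SLInv
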