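/-
The classes of involutions from a checked table and separating ranks.
-/
import Cfsg.Agent.Lib.Chev.SLInvol.Finish
import Cfsg.Agent.Lib.Chev.SLInvol.Rank

set_option autoImplicit false
set_option maxRecDepth 100000

namespace CfsgLib.Chev.SLInv

open Cfsg.Lie Matrix CfsgLib.Chev

variable {D : ChevalleyDatum} {A : Aux} {X : Data} {F : Type*} [Field F] [CharP F 2]

/-- the ranks of the representatives are all different -/
def Ranked (F : Type*) [Field F] [CharP F 2] (g : Good D A) (X : Data) (rk : List ℕ) : Prop :=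
  ∀ k < X.reps.length, (((P (F := F) g (X.reps.getD k []) : GL D.Idx F) : Matrix D.Idx D.Idx F) - 1).rank =
    rk.getD k 0

/-- a representative is an involution of the group -/
theorem rep_invol (hC : Checked D A X) {rk : List ℕ} (hR : Ranked F hC.std.good X rk) {k : ℕ}
    (hk : k < X.reps.length) (h0 : rk.getD k 0 ≠ 0) :
    P hC.std.good (X.reps.getD k []) ∈ D.group F ∧
      orderOf (P (F := F) hC.std.good (X.reps.getD k [])) = 2 := by
  refine ⟨P_mem hC.std _, orderOf_eq_prime_iff.2 ⟨?_, fun e => h0 ?_⟩⟩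
  · have hr := hC.reps
    simp only [repsB, Bool.and_eq_true, decide_eq_true_eq, List.all_eq_true] at hr
    have hm := hr.2 _ (List.getElem_mem (l := X.reps) hk)
    rw [List.getD_eq_getElem?_getD, List.getElem?_eq_getElem hk, Option.getD_some, sq]
    generalize X.reps[k] = L at hm
    have hO : Orth D A L := ⟨hm.1, hm.2⟩
    clear hm
    induction L with
    | nil => simp [P]
    | cons a L ih =>
      have hL : Orth D A L := ⟨fun r hr => hO.1 r (List.mem_cons_of_mem _ hr), (List.pairwise_cons.1 hO.2).2⟩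
      have hc : Commute (P hC.std.good L) (xG hC.std.good a (1 : F)) := by
        refine Commute.list_prod_left _ _ fun y hy => ?_
        obtain ⟨b, hb, rfl⟩ := List.mem_map.1 hy
        exact (commute_orth hC.std hC.base (hO.1 a List.mem_cons_self) (hL.1 b hb)
          ((List.pairwise_cons.1 hO.2).1 b hb) 1 1).symm
      have e : P hC.std.good (a :: L) = xG hC.std.good a (1 : F) * P hC.std.good L := by simp [P]
      rw [e, mul_assoc, ← mul_assoc (P hC.std.good L), hc.eq, mul_assoc, ih hL, mul_one, xG_add,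
        CharTwo.add_self_eq_zero, xG_zero]
  · rw [← hR k hk, e, Units.val_one, sub_self, Matrix.rank_zero]

/-- different representatives are not conjugate -/
theorem rep_distinct (hC : Checked D A X) {rk : List ℕ} (hR : Ranked F hC.std.good X rk) (hn : rk.Nodup)
    (hl : rk.length = X.reps.length) {i j : ℕ} (hi : i < X.reps.length) (hj : j < X.reps.length)
    {g : GL D.Idx F} (e : g * P hC.std.good (X.reps.getD i []) * g⁻¹ = P hC.std.good (X.reps.getD j [])) :
    i = j := by
  have h := rank_conj g (P (F := F) hC.std.good (X.reps.getD i []))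
  rw [e, hR i hi, hR j hj] at h
  rw [List.getD_eq_getElem?_getD, List.getD_eq_getElem?_getD, List.getElem?_eq_getElem (i := i) (hl ▸ hi),
    List.getElem?_eq_getElem (i := j) (hl ▸ hj), Option.getD_some, Option.getD_some] at h
  exact ((hn.getElem_inj_iff).1 h).symm

/-- the number of classes of involutions -/
theorem class_count [Fintype F] (hC : Checked D A X) {rk : List ℕ} (hR : Ranked F hC.std.good X rk)
    (hn : rk.Nodup) (hl : rk.length = X.reps.length) (h0 : ∀ k < X.reps.length, k ≠ 0 → rk.getD k 0 ≠ 0) :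
    (ConjClasses.mk '' {g : ↥(D.group F) | orderOf g = 2}).ncard = X.reps.length - 1 := by
  classical
  let rep : Fin (X.reps.length - 1) → ↥(D.group F) := fun i =>
    ⟨P hC.std.good (X.reps.getD (i.val + 1) []), P_mem hC.std _⟩
  have himg : ConjClasses.mk '' {g : ↥(D.group F) | orderOf g = 2} = Set.range (ConjClasses.mk ∘ rep) := by
    refine Set.Subset.antisymm ?_ ?_
    · rintro _ ⟨g, hg, rfl⟩
      obtain ⟨k, hk, hk0, c, hc, e⟩ := exists_class hC g.2 ((Subgroup.orderOf_coe g).trans hg)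
      refine ⟨⟨k - 1, by omega⟩, Eq.symm (ConjClasses.mk_eq_mk_iff_isConj.2 (isConj_iff.2 ⟨⟨c, hc⟩, ?_⟩))⟩
      apply Subtype.ext
      simp only [rep, Nat.sub_add_cancel (Nat.one_le_iff_ne_zero.2 hk0)]
      exact e
    · rintro _ ⟨i, rfl⟩
      have hi : i.val + 1 < X.reps.length := by omega
      exact ⟨rep i, (Subgroup.orderOf_mk _ _).trans (rep_invol hC hR hi (h0 _ hi (by omega))).2, rfl⟩
  rw [himg, Set.ncard_range_of_injective, Nat.card_fin]
  intro i j e
  obtain ⟨c, hc⟩ := isConj_iff.1 (ConjClasses.mk_eq_mk_iff_isConj.1 e)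
  have := rep_distinct hC hR hn hl (i := i.val + 1) (j := j.val + 1) (by omega) (by omega)
    (g := (c : GL D.Idx F)) (congrArg Subtype.val hc)
  exact Fin.ext (by omega)

/-- the list form of the classification -/
theorem classes [Fintype F] (hC : Checked D A X) {rk : List ℕ} (hR : Ranked F hC.std.good X rk)
    (hn : rk.Nodup) (hl : rk.length = X.reps.length) (h0 : ∀ k < X.reps.length, k ≠ 0 → rk.getD k 0 ≠ 0)
    {Ms : List (Matrix D.Idx D.Idx F)}
    (hM : Ms = (X.reps.drop 1).map fun L => (P (F := F) hC.std.good L : Matrix D.Idx D.Idx F)) :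
    (∀ y : GL D.Idx F, (y : Matrix D.Idx D.Idx F) ∈ Ms → y ∈ D.group F ∧ orderOf y = 2) ∧
    (∀ g ∈ D.group F, orderOf g = 2 → ∃ y ∈ D.group F, (y : Matrix D.Idx D.Idx F) ∈ Ms ∧
      ∃ h ∈ D.group F, h * g * h⁻¹ = y) ∧
    (∀ y₁ ∈ D.group F, ∀ y₂ ∈ D.group F, (y₁ : Matrix D.Idx D.Idx F) ∈ Ms → (y₂ : Matrix D.Idx D.Idx F) ∈ Ms →
      (∃ h ∈ D.group F, h * y₁ * h⁻¹ = y₂) → (y₁ : Matrix D.Idx D.Idx F) = y₂) := by
  have key : ∀ y : GL D.Idx F, (y : Matrix D.Idx D.Idx F) ∈ Ms →
      ∃ k, k + 1 < X.reps.length ∧ y = P hC.std.good (X.reps.getD (k + 1) []) := by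
    intro y hy
    rw [hM] at hy
    obtain ⟨L, hL, e⟩ := List.mem_map.1 hy
    obtain ⟨k, hk, rfl⟩ := List.getElem_of_mem hL
    rw [List.length_drop] at hk
    refine ⟨k, by omega, ?_⟩
    rw [List.getD_eq_getElem?_getD, List.getElem?_eq_getElem (by omega), Option.getD_some]
    rw [← Units.val_inj.1 e, List.getElem_drop]
    simp only [add_comm k 1]
  refine ⟨fun y hy => ?_, fun g hg h2 => ?_, ?_⟩
  · obtain ⟨k, hk, rfl⟩ := key y hy
    exact rep_invol hC hR hk (h0 _ hk (by omega))
  · obtain ⟨k, hk, hk0, c, hc, e⟩ := exists_class hC hg h2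
    refine ⟨_, P_mem hC.std _, ?_, c, hc, e⟩
    rw [hM, List.mem_map]
    refine ⟨X.reps.getD k [], ?_, rfl⟩
    obtain ⟨j, rfl⟩ : ∃ j, k = 1 + j := ⟨k - 1, by omega⟩
    rw [List.getD_eq_getElem?_getD, List.getElem?_eq_getElem hk, Option.getD_some, ← List.getElem_drop]
    exact List.getElem_mem (by rw [List.length_drop]; omega)
  · rintro y₁ - y₂ - h1 h2 ⟨h, -, e⟩
    obtain ⟨i, hi, rfl⟩ := key y₁ h1
    obtain ⟨j, hj, rfl⟩ := key y₂ h2
    rw [rep_distinct hC hR hn hl hi hj e]

end CfsgLib.Chev.SLInv
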